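import Mathlib

/-!
# Carmichael's bound

A group generated by elements `x i` of order dividing three with `(x i * x j) ^ 2 = 1` for
`i ≠ j` has at most `(m + 2)! / 2` elements, `m` the number of generators.
-/

set_option autoImplicit false

namespace Cfsg.Agent.SpinCover

open Subgroup

theorem carmichael_bound {Q : Type*} [Group Q] [Finite Q] {ι : Type*} [DecidableEq ι] (X : ι → Q)
    (s : Finset ι) (h3 : ∀ i ∈ s, X i * X i * X i = 1)
    (h2 : ∀ i ∈ s, ∀ j ∈ s, i ≠ j → X i * X j * (X i * X j) = 1) :
    2 * Nat.card (closure (X '' (s : Set ι))) ≤ (s.card + 2).factorial := by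
  classical
  induction s using Finset.induction with
  | empty => simp
  | insert e s he ih =>
    have ih' := ih (fun i hi => h3 i (Finset.mem_insert_of_mem hi))
      (fun i hi j hj => h2 i (Finset.mem_insert_of_mem hi) j (Finset.mem_insert_of_mem hj))
    set K := closure (X '' (s : Set ι))
    set x := X e
    have hK : ∀ i ∈ s, X i ∈ K := fun i hi => subset_closure ⟨i, hi, rfl⟩
    have hx3 : x * x * x = 1 := h3 e (Finset.mem_insert_self _ _)
    -- rewriting rules
    have hinv : ∀ i ∈ insert e s, (X i)⁻¹ = X i * X i := fun i hi =>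
      inv_eq_of_mul_eq_one_left (h3 i hi)
    have hsq : ∀ i ∈ insert e s, (X i * X i)⁻¹ = X i := fun i hi =>
      inv_eq_of_mul_eq_one_right (h3 i hi)
    have hswap : ∀ i ∈ insert e s, ∀ j ∈ insert e s, i ≠ j →
        X i * X j = (X j * X j) * (X i * X i) := fun i hi j hj hij => by
      rw [← hinv i hi, ← hinv j hj, ← mul_inv_rev]
      exact eq_inv_of_mul_eq_one_left (h2 i hi j hj hij)
    have he' := Finset.mem_insert_self e s
    have hne : ∀ i ∈ s, i ≠ e := fun i hi h => he (h ▸ hi)
    -- the coset representatives
    let R : Finset Q := {1, x, x * x} ∪ s.image fun i => x * x * X i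
    have hR1 : (1 : Q) ∈ R := by simp [R]
    have hRx : x ∈ R := by simp [R]
    have hRxx : x * x ∈ R := by simp [R]
    have hRi : ∀ i ∈ s, x * x * X i ∈ R := fun i hi =>
      Finset.mem_union_right _ (Finset.mem_image_of_mem _ hi)
    let P : Q → Prop := fun g => ∃ k ∈ K, ∃ r ∈ R, g = k * r
    have hPr : ∀ r ∈ R, ∀ i ∈ insert e s, P (r * X i) := by
      intro r hr i hi
      simp only [R, Finset.mem_union, Finset.mem_insert, Finset.mem_singleton,
        Finset.mem_image] at hr
      rcases Finset.mem_insert.1 hi with rfl | his
      · rcases hr with (rfl | rfl | rfl) | ⟨j, hj, rfl⟩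
        · exact ⟨1, one_mem _, x, hRx, rfl⟩
        · exact ⟨1, one_mem _, x * x, hRxx, by rw [one_mul]⟩
        · exact ⟨1, one_mem _, 1, hR1, by rw [hx3, one_mul]⟩
        · refine ⟨X j * X j, mul_mem (hK j hj) (hK j hj), x * x * X j, hRi j hj, ?_⟩
          have hj' : j ∈ insert i s := Finset.mem_insert_of_mem hj
          calc x * x * X j * X i = x * x * (X j * X i) := by group
            _ = x * x * ((x * x) * (X j * X j)) := by rw [hswap j hj' i he' (hne j hj)]
            _ = x * x * x * (x * X j) * X j := by group
            _ = x * X j * X j := by rw [hx3, one_mul]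
            _ = (X j * X j) * (x * x) * X j := by rw [hswap i he' j hj' (hne j hj).symm]
            _ = _ := by group
      · rcases hr with (rfl | rfl | rfl) | ⟨j, hj, rfl⟩
        · exact ⟨X i, hK i his, 1, hR1, by group⟩
        · exact ⟨X i * X i, mul_mem (hK i his) (hK i his), x * x, hRxx,
            hswap e he' i hi (hne i his).symm⟩
        · exact ⟨1, one_mem _, x * x * X i, hRi i his, by rw [one_mul]⟩
        · have hj' : j ∈ insert e s := Finset.mem_insert_of_mem hj
          rcases eq_or_ne j i with rfl | hji
          · refine ⟨X j, hK j hj, x, hRx, ?_⟩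
            rw [show X j * x = X j * X e from rfl, hswap j hj' e he' (hne j hj)]
            group
            rfl
          · refine ⟨X i * (X j * X j), mul_mem (hK i his) (mul_mem (hK j hj) (hK j hj)),
              x * x * X j, hRi j hj, ?_⟩
            calc x * x * X j * X i = x * x * (X j * X i) := by group
              _ = x * x * ((X i * X i) * (X j * X j)) := by rw [hswap j hj' i hi hji]
              _ = (X e * X e) * (X i * X i) * (X j * X j) := by group; rfl
              _ = X i * X e * (X j * X j) := by rw [← hswap i hi e he' (hne i his)]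
              _ = X i * (X e * X j) * X j := by group
              _ = X i * ((X j * X j) * (x * x)) * X j := by
                rw [hswap e he' j hj' (hne j hj).symm]
              _ = _ := by group
    have hstep : ∀ g, P g → ∀ i ∈ insert e s, P (g * X i) := by
      rintro g ⟨k, hk, r, hr, rfl⟩ i hi
      obtain ⟨k', hk', r', hr', h⟩ := hPr r hr i hi
      exact ⟨k * k', mul_mem hk hk', r', hr', by rw [mul_assoc, h, mul_assoc]⟩
    have hall : ∀ g ∈ closure (X '' ((insert e s : Finset ι) : Set ι)), P g := by
      intro g hg
      induction hg using closure_induction_right with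
      | one => exact ⟨1, one_mem _, 1, hR1, (one_mul _).symm⟩
      | mul_right g hg y hy ih2 =>
        obtain ⟨i, hi, rfl⟩ := hy
        exact hstep g ih2 i hi
      | mul_inv_cancel g hg y hy ih2 =>
        obtain ⟨i, hi, rfl⟩ := hy
        rw [hinv i hi, ← mul_assoc]
        exact hstep _ (hstep g ih2 i hi) i hi
    have hle : Nat.card (closure (X '' ((insert e s : Finset ι) : Set ι))) ≤
        Nat.card K * R.card := by
      rw [← Nat.card_eq_finsetCard R, ← Nat.card_prod]
      choose kf hkf rf hrf hgf using fun g : closure (X '' ((insert e s : Finset ι) : Set ι)) =>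
        hall g g.2
      refine Nat.card_le_card_of_injective (fun g => (⟨kf g, hkf g⟩, ⟨rf g, hrf g⟩)) fun a b h => ?_
      simp only [Prod.mk.injEq, Subtype.mk.injEq] at h
      exact Subtype.ext (by rw [hgf a, hgf b, h.1, h.2])
    have hRc : R.card ≤ s.card + 3 := by
      refine (Finset.card_union_le _ _).trans ?_
      have h1 : ({1, x, x * x} : Finset Q).card ≤ 3 := Finset.card_le_three
      have h2 := Finset.card_image_le (s := s) (f := fun i => x * x * X i)
      omega
    rw [Finset.card_insert_of_notMem he, show s.card + 1 + 2 = s.card + 2 + 1 by ring,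
      Nat.factorial_succ]
    calc 2 * _ ≤ 2 * (Nat.card K * R.card) := Nat.mul_le_mul_left 2 hle
      _ = R.card * (2 * Nat.card K) := by ring
      _ ≤ (s.card + 2 + 1) * (s.card + 2).factorial := Nat.mul_le_mul hRc ih'

end Cfsg.Agent.SpinCover
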