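import Mathlib
import Cfsg.Agent.Lib.SpinCover.Carmichael

/-!
# The Schur multiplier of `A_n` has order at most two (`n = 5` or `n ≥ 8`)

Three-cycles have canonical lifts to a central extension, of order three and inverted by an
element; these satisfy Carmichael's relations up to a single central involution.
-/

set_option autoImplicit false
set_option linter.style.haveILetI false

namespace Cfsg.Agent.SpinCover.Multiplier

open Equiv Subgroup
open scoped commutatorElement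

variable {n : ℕ} {Γ : Type*} [Group Γ] {f : Γ →* Perm (Fin n)} {Z : Subgroup Γ}

/-- The data of a central extension of `A_n` by `Z`. -/
structure IsExt (f : Γ →* Perm (Fin n)) (Z : Subgroup Γ) : Prop where
  ker : ∀ g, f g = 1 ↔ g ∈ Z
  central : Z ≤ center Γ
  even : ∀ g, f g ∈ alternatingGroup (Fin n)
  surj : ∀ σ ∈ alternatingGroup (Fin n), ∃ g, f g = σ

theorem IsExt.comm (H : IsExt f Z) {z : Γ} (hz : z ∈ Z) (g : Γ) : Commute g z :=
  mem_center_iff.1 (H.central hz) g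

theorem IsExt.diff (H : IsExt f Z) {g h : Γ} (hgh : f g = f h) : ∃ z ∈ Z, h = g * z :=
  ⟨g⁻¹ * h, (H.ker _).1 (by rw [map_mul, map_inv, hgh, inv_mul_cancel]),
    (mul_inv_cancel_left g h).symm⟩

/-- Elements lying over commuting permutations commute, for a three-cycle. -/
theorem commute_of_commute (H : IsExt f Z) (h6 : n ≠ 6) (h7 : n ≠ 7) {X : Γ}
    (hX : (f X).IsThreeCycle) {g : Γ} (hg : Commute (f g) (f X)) : Commute g X := by
  classical
  set x := f X with hx
  let P : Subgroup Γ := (Subgroup.centralizer {x}).comap f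
  have hPmem : ∀ p : P, f p * x = x * f p := fun p =>
    Subgroup.mem_centralizer_singleton_iff.1 p.2
  have hcmem : ∀ p : P, (p : Γ) * X * (p : Γ)⁻¹ * X⁻¹ ∈ Z := fun p => (H.ker _).1 (by
    rw [map_mul, map_mul, map_mul, map_inv, map_inv, ← hx, hPmem p, mul_inv_cancel_right,
      mul_inv_cancel])
  let c : P →* Z :=
    { toFun := fun p => ⟨(p : Γ) * X * (p : Γ)⁻¹ * X⁻¹, hcmem p⟩
      map_one' := Subtype.ext (by simp)
      map_mul' := fun p q => Subtype.ext (by
        show ((p * q : P) : Γ) * X * ((p * q : P) : Γ)⁻¹ * X⁻¹ =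
          ((p : Γ) * X * (p : Γ)⁻¹ * X⁻¹) * ((q : Γ) * X * (q : Γ)⁻¹ * X⁻¹)
        have h1 := (H.comm (hcmem q) (p : Γ)).eq
        have h2 := (H.comm (hcmem q) ((p : Γ) * X * (p : Γ)⁻¹ * X⁻¹)).eq
        rw [h2]
        calc _ = (p : Γ) * ((q : Γ) * X * (q : Γ)⁻¹ * X⁻¹) * (X * (p : Γ)⁻¹ * X⁻¹) := by
              simp [mul_assoc]
          _ = ((q : Γ) * X * (q : Γ)⁻¹ * X⁻¹) * (p : Γ) * (X * (p : Γ)⁻¹ * X⁻¹) := by rw [h1]
          _ = _ := by group) }
  have hcomm : ∀ u v : Z, u * v = v * u := fun u v => Subtype.ext (H.comm v.2 u).eq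
  -- the permutations all of whose lifts commute with `X`
  let T : Subgroup (Perm (Fin n)) := (c.ker.map P.subtype).map f
  have hTmem : ∀ p : P, c p = 1 → f p ∈ T := fun p hp => ⟨p, ⟨p, hp, rfl⟩, rfl⟩
  have hcZ : ∀ p : P, (p : Γ) ∈ Z → c p = 1 := fun p hp => Subtype.ext (by
    show (p : Γ) * X * (p : Γ)⁻¹ * X⁻¹ = 1
    rw [← (H.comm hp X).eq]; group)
  have hT : ∀ p : P, f p ∈ T → c p = 1 := by
    rintro p ⟨_, ⟨q, hq, rfl⟩, hqp⟩
    obtain ⟨z, hz, hpz⟩ := H.diff hqp
    have hzP : z ∈ P := Subgroup.mem_comap.2 (by rw [(H.ker z).2 hz]; exact one_mem _)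
    rw [show p = q * ⟨z, hzP⟩ from Subtype.ext hpz, map_mul, hq, hcZ ⟨z, hzP⟩ hz, one_mul]
  suffices hmain : f g ∈ T by
    have h1 := congrArg Subtype.val
      (hT ⟨g, Subgroup.mem_comap.2 (Subgroup.mem_centralizer_singleton_iff.2 hg.eq)⟩ hmain)
    have h2 : g * X * g⁻¹ * X⁻¹ = 1 := h1
    rwa [mul_inv_eq_one, mul_inv_eq_iff_eq_mul] at h2
  have hXP : X ∈ P := Subgroup.mem_comap.2 (Subgroup.mem_centralizer_singleton_iff.2 rfl)
  have hxT : x ∈ T := hTmem ⟨X, hXP⟩ (Subtype.ext (by show X * X * X⁻¹ * X⁻¹ = 1; group))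
  -- decompose `f g`
  obtain ⟨a, ha⟩ : ∃ a, x a ≠ a := by
    by_contra! h
    exact hX.isCycle.ne_one (Equiv.ext h)
  have ha' : x (f g a) ≠ f g a := by
    intro h
    apply ha
    have h1 : x (f g a) = f g (x a) := by
      rw [← Perm.mul_apply, ← Perm.mul_apply, hg.eq]
    exact (f g).injective (h1.symm.trans h)
  obtain ⟨i, hi⟩ := hX.isCycle.sameCycle ha ha'
  set τ := x ^ (-i) * f g with hτ
  have hτx : Commute τ x := (Commute.zpow_left (Commute.refl x) _).mul_left hg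
  have hτa : τ a = a := by
    rw [hτ, Perm.mul_apply, ← hi, ← Perm.mul_apply, ← zpow_add, neg_add_cancel, zpow_zero,
      Perm.one_apply]
  have hτfix : ∀ j, x j ≠ j → τ j = j := by
    intro j hj
    obtain ⟨k, rfl⟩ := hX.isCycle.sameCycle ha hj
    rw [← Perm.mul_apply, (hτx.zpow_right k).eq, Perm.mul_apply, hτa]
  have hτA : Perm.sign τ = 1 := by
    rw [hτ, map_mul, map_zpow, hX.sign, one_zpow, one_mul]
    exact Perm.mem_alternatingGroup.1 (H.even g)
  suffices hτT : τ ∈ T by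
    have : f g = x ^ i * τ := by rw [hτ, ← mul_assoc, ← zpow_add, add_neg_cancel, zpow_zero, one_mul]
    rw [this]
    exact mul_mem (zpow_mem hxT i) hτT
  let p : Fin n → Prop := fun j => x j = j
  have h1 : ∀ j, p (τ j) ↔ p j := fun j => by
    show x (τ j) = τ j ↔ x j = j
    rw [← Perm.mul_apply, ← hτx.eq, Perm.mul_apply]
    exact τ.injective.eq_iff
  have h2 : ∀ j, τ j ≠ j → p j := fun j hj => by_contra fun h => hj (hτfix j h)
  rw [← Perm.ofSubtype_subtypePerm h1 h2]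
  have hcard : Fintype.card {j // p j} + 3 = n := by
    have h3 : Fintype.card {j // p j} = n - x.support.card := by
      rw [Fintype.card_subtype, show (Finset.univ.filter p) = x.supportᶜ by ext j; simp [p]]
      rw [Finset.card_compl, Fintype.card_fin]
    have h4 := hX.card_support
    have h5 : x.support.card ≤ n := by simpa using x.support.card_le_univ
    omega
  have hclos : Perm.subtypePerm τ h1 ∈ alternatingGroup {j // p j} := by
    rw [Perm.mem_alternatingGroup, Perm.sign_subtypePerm τ h1 h2]; exact hτA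
  rw [← Perm.closure_three_cycles_eq_alternating] at hclos
  refine ((Subgroup.closure_le (T.comap Perm.ofSubtype)).2 ?_) hclos
  intro π hπ
  show Perm.ofSubtype π ∈ T
  have hcard5 : 5 ≤ Fintype.card {j // p j} := by
    have h3 : 3 ≤ Fintype.card {j // p j} := by
      rw [← (show π.support.card = 3 from Perm.IsThreeCycle.card_support hπ)]
      exact π.support.card_le_univ
    omega
  have hπA : π ∈ alternatingGroup {j // p j} := Perm.IsThreeCycle.mem_alternatingGroup hπ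
  obtain ⟨⟨ρ, hρA⟩, hρ⟩ := isConj_iff.1 (alternatingGroup.isThreeCycle_isConj
    (α := {j // p j}) (by rw [Nat.card_eq_fintype_card]; exact hcard5)
    (σ := ⟨π, hπA⟩) (τ := ⟨π⁻¹, inv_mem hπA⟩) hπ (Perm.IsThreeCycle.inv hπ))
  have hρ' : ρ * π * ρ⁻¹ = π⁻¹ := congrArg Subtype.val hρ
  have hsub : ∀ σ : Perm {j // p j}, σ ∈ alternatingGroup {j // p j} →
      ∃ s : P, f s = Perm.ofSubtype σ := by
    intro σ hσ
    obtain ⟨s, hs⟩ := H.surj (Perm.ofSubtype σ)
      (by rw [Perm.mem_alternatingGroup, Perm.sign_ofSubtype]; exact hσ)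
    refine ⟨⟨s, Subgroup.mem_comap.2 (Subgroup.mem_centralizer_singleton_iff.2 ?_)⟩, hs⟩
    have hd : Perm.Disjoint (Perm.ofSubtype σ) x := fun j => by
      by_cases hj : p j
      · exact Or.inr hj
      · exact Or.inl (Perm.ofSubtype_apply_of_not_mem σ hj)
    rw [hs]; exact hd.commute.eq
  obtain ⟨Y, hY⟩ := hsub π hπA
  obtain ⟨R, hR⟩ := hsub ρ hρA
  have h3 : c Y * c Y * c Y = 1 := by
    rw [← map_mul, ← map_mul]
    refine hcZ _ ((H.ker _).1 ?_)
    rw [Subgroup.coe_mul, Subgroup.coe_mul, map_mul, map_mul, hY, ← map_mul, ← map_mul,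
      show π * π * π = π ^ 3 by rw [pow_succ, pow_two], ← Perm.IsThreeCycle.orderOf hπ,
      pow_orderOf_eq_one, map_one]
  have h2' : c Y * c Y = 1 := by
    have hz : ((R * Y * R⁻¹ * Y : P) : Γ) ∈ Z := (H.ker _).1 (by
      simp only [Subgroup.coe_mul, InvMemClass.coe_inv, map_mul, map_inv, hY, hR]
      rw [← map_inv, ← map_mul, ← map_mul, ← map_mul, hρ', inv_mul_cancel, map_one])
    have h4 := hcZ _ hz
    rwa [map_mul, map_mul, map_mul, map_inv, hcomm (c R) (c Y), mul_inv_cancel_right] at h4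
  rw [h2', one_mul] at h3
  rw [← hY]
  exact hTmem Y h3

/-- A canonical lift of a three-cycle. -/
def Canon (f : Γ →* Perm (Fin n)) (X : Γ) : Prop :=
  (f X).IsThreeCycle ∧ X * X * X = 1 ∧ ∃ g, g * X * g⁻¹ = X⁻¹

theorem exists_canon (H : IsExt f Z) (h5 : 5 ≤ n) {x : Perm (Fin n)} (hx : x.IsThreeCycle) :
    ∃ X, f X = x ∧ Canon f X := by
  obtain ⟨X₀, hX₀⟩ := H.surj x hx.mem_alternatingGroup
  obtain ⟨⟨σ, hσ⟩, hconj⟩ := isConj_iff.1 (alternatingGroup.isThreeCycle_isConj
    (α := Fin n) (by simpa using h5) (σ := ⟨x, hx.mem_alternatingGroup⟩)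
    (τ := ⟨x⁻¹, inv_mem hx.mem_alternatingGroup⟩) hx hx.inv)
  obtain ⟨g, hg⟩ := H.surj σ hσ
  have hσx : σ * x * σ⁻¹ = x⁻¹ := congrArg Subtype.val hconj
  set a := X₀ * X₀ * X₀ with ha'
  have ha : a ∈ Z := (H.ker _).1 (by
    rw [ha', map_mul, map_mul, hX₀, show x * x * x = x ^ 3 by rw [pow_succ, pow_two], ← hx.orderOf,
      pow_orderOf_eq_one])
  set c := X₀ * (g * X₀ * g⁻¹) with hc'
  have hc : c ∈ Z := (H.ker _).1 (by
    rw [hc', map_mul, map_mul, map_mul, map_inv, hX₀, hg, hσx, mul_inv_cancel])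
  have hgX : g * X₀ * g⁻¹ = X₀⁻¹ * c := by rw [hc']; group
  have hpow : ∀ (u z : Γ), Commute u z → (u * z) * (u * z) * (u * z) = (u * u * u) * z ^ 3 := by
    intro u z huz
    rw [show (u * z) * (u * z) * (u * z) = (u * z) ^ 3 by rw [pow_succ, pow_two], huz.mul_pow,
      show u ^ 3 = u * u * u by rw [pow_succ, pow_two]]
  have hac : a * a = c ^ 3 := by
    have h1 : g * a * g⁻¹ = a := by rw [(H.comm ha g).eq, mul_inv_cancel_right]
    have h2 : g * a * g⁻¹ = a⁻¹ * c ^ 3 := by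
      calc g * a * g⁻¹ = (g * X₀ * g⁻¹) * (g * X₀ * g⁻¹) * (g * X₀ * g⁻¹) := by rw [ha']; group
        _ = (X₀⁻¹ * c) * (X₀⁻¹ * c) * (X₀⁻¹ * c) := by rw [hgX]
        _ = (X₀⁻¹ * X₀⁻¹ * X₀⁻¹) * c ^ 3 := hpow _ _ (H.comm hc _)
        _ = _ := by rw [ha']; group
    rw [h1] at h2
    calc a * a = a * (a⁻¹ * c ^ 3) := by rw [← h2]
      _ = c ^ 3 := mul_inv_cancel_left _ _
  set d := c * a⁻¹ with hd'
  have hd : d ∈ Z := mul_mem hc (inv_mem ha)
  have hca : Commute c a⁻¹ := H.comm (inv_mem ha) c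
  have hd3 : d ^ 3 = a⁻¹ := by
    rw [hd', hca.mul_pow, ← hac]
    group
  refine ⟨X₀ * d, by rw [map_mul, (H.ker d).2 hd, mul_one, hX₀], ?_, ?_, g, ?_⟩
  · rw [map_mul, (H.ker d).2 hd, mul_one, hX₀]; exact hx
  · rw [hpow _ _ (H.comm hd X₀), hd3, ← ha', mul_inv_cancel]
  · have h1 : g * (X₀ * d) * g⁻¹ = X₀⁻¹ * (c * d) := by
      calc g * (X₀ * d) * g⁻¹ = g * X₀ * (d * g⁻¹) := by group
        _ = g * X₀ * (g⁻¹ * d) := by rw [(H.comm hd g⁻¹).eq]
        _ = (g * X₀ * g⁻¹) * d := by group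
        _ = _ := by rw [hgX, mul_assoc]
    have h2 : c * d = d⁻¹ := by
      refine eq_inv_of_mul_eq_one_left ?_
      calc c * d * d = c * d ^ 2 := by rw [mul_assoc, pow_two]
        _ = c * (c ^ 2 * (a⁻¹) ^ 2) := by rw [hd', hca.mul_pow]
        _ = (c ^ 3) * (a⁻¹) ^ 2 := by rw [← mul_assoc, ← pow_succ']
        _ = 1 := by rw [← hac]; group
    rw [h1, h2, show (X₀ * d)⁻¹ = d⁻¹ * X₀⁻¹ from mul_inv_rev X₀ d]
    exact H.comm (inv_mem hd) _

theorem canon_unique (H : IsExt f Z) (h6 : n ≠ 6) (h7 : n ≠ 7) {X Y : Γ} (hX : Canon f X)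
    (hY : Canon f Y) (hXY : f X = f Y) : X = Y := by
  obtain ⟨hx, hX3, g, hg⟩ := hX
  obtain ⟨-, hY3, h, hh⟩ := hY
  obtain ⟨d, hd, rfl⟩ := H.diff hXY
  have hd3 : d * d * d = 1 := by
    have : (X * d) * (X * d) * (X * d) = (X * X * X) * (d * d * d) := by
      rw [show (X * d) * (X * d) * (X * d) = (X * d) ^ 3 by rw [pow_succ, pow_two],
        (H.comm hd X).mul_pow]
      simp [pow_succ]
    rw [this, hX3, one_mul] at hY3
    exact hY3
  have hcom : Commute (g⁻¹ * h) X := by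
    refine commute_of_commute H h6 h7 hx ?_
    have h1 : f g * f X * (f g)⁻¹ = (f X)⁻¹ := by
      rw [← map_inv f X, ← hg, map_mul, map_mul, map_inv]
    have h2 : f h * f X * (f h)⁻¹ = (f X)⁻¹ := by
      have h3 := congrArg f hh
      simp only [map_mul, map_inv, (H.ker d).2 hd, mul_one] at h3
      exact h3
    have h3 : f h * f X * (f h)⁻¹ = f g * f X * (f g)⁻¹ := h2.trans h1.symm
    show f (g⁻¹ * h) * f X = f X * f (g⁻¹ * h)
    rw [map_mul, map_inv]
    calc (f g)⁻¹ * f h * f X = (f g)⁻¹ * (f h * f X * (f h)⁻¹) * f h := by group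
      _ = (f g)⁻¹ * (f g * f X * (f g)⁻¹) * f h := by rw [h3]
      _ = _ := by group
  have h4 : h * X * h⁻¹ = X⁻¹ := by
    rw [← hg]
    calc h * X * h⁻¹ = g * ((g⁻¹ * h) * X) * h⁻¹ := by group
      _ = g * (X * (g⁻¹ * h)) * h⁻¹ := by rw [hcom.eq]
      _ = _ := by group
  have h5 : h * (X * d) * h⁻¹ = X⁻¹ * d := by
    calc h * (X * d) * h⁻¹ = h * X * (d * h⁻¹) := by group
      _ = h * X * (h⁻¹ * d) := by rw [(H.comm hd h⁻¹).eq]
      _ = (h * X * h⁻¹) * d := by group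
      _ = _ := by rw [h4]
  rw [hh, mul_inv_rev, (H.comm (inv_mem hd) X⁻¹).eq.symm, mul_right_inj] at h5
  have h6 : d * d = 1 := by
    calc d * d = d⁻¹ * d := by rw [h5]
      _ = 1 := inv_mul_cancel d
  rw [h6, one_mul] at hd3
  rw [hd3, mul_one]

theorem canon_conj {X : Γ} (hX : Canon f X) (k : Γ) : Canon f (k * X * k⁻¹) := by
  obtain ⟨hx, hX3, g, hg⟩ := hX
  refine ⟨?_, ?_, k * g * k⁻¹, ?_⟩
  · rw [map_mul, map_mul, map_inv]
    show (f k * f X * (f k)⁻¹).cycleType = {3}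
    rw [Perm.cycleType_conj]; exact hx
  · rw [show k * X * k⁻¹ * (k * X * k⁻¹) * (k * X * k⁻¹) = k * (X * X * X) * k⁻¹ by group, hX3,
      mul_one, mul_inv_cancel]
  · calc k * g * k⁻¹ * (k * X * k⁻¹) * (k * g * k⁻¹)⁻¹ = k * (g * X * g⁻¹) * k⁻¹ := by group
      _ = k * X⁻¹ * k⁻¹ := by rw [hg]
      _ = _ := by group

theorem canon_inv {X : Γ} (hX : Canon f X) : Canon f X⁻¹ := by
  obtain ⟨hx, hX3, g, hg⟩ := hX
  refine ⟨by rw [map_inv]; exact hx.inv, ?_, g, ?_⟩
  · rw [← mul_inv_rev, ← mul_inv_rev, ← mul_assoc, hX3, inv_one]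
  · calc g * X⁻¹ * g⁻¹ = (g * X * g⁻¹)⁻¹ := by group
      _ = _ := by rw [hg]

/-- The three-cycles through `a` and `b`. -/
def tri (a b i : Fin n) : Perm (Fin n) := swap a b * swap a i

theorem conj_tri (σ : Perm (Fin n)) (a b i : Fin n) :
    σ * tri a b i * σ⁻¹ = tri (σ a) (σ b) (σ i) := by
  have h : ∀ u v, swap (σ u) (σ v) = σ * swap u v * σ⁻¹ := fun u v =>
    Equiv.swap_apply_apply σ u v
  rw [tri, tri, h, h]
  group

theorem tri_inv (a b i : Fin n) (hai : a ≠ i) (hbi : b ≠ i) :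
    (tri a b i)⁻¹ = tri b a i := by
  rw [tri, tri, mul_inv_rev, swap_inv, swap_inv, swap_comm b a]
  have h1 : swap b i = swap a b * swap a i * (swap a b)⁻¹ := by
    have := Equiv.swap_apply_apply (swap a b) a i
    rwa [swap_apply_left, swap_apply_of_ne_of_ne hai.symm hbi.symm] at this
  rw [h1, swap_inv]
  simp [← mul_assoc]

/-- The tris generate the alternating group. -/
theorem closure_tri (a b : Fin n) (hab : a ≠ b) :
    alternatingGroup (Fin n) ≤ closure (tri a b '' {i | i ≠ a ∧ i ≠ b}) := by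
  classical
  set T := closure (tri a b '' {i | i ≠ a ∧ i ≠ b}) with hT
  set s := swap a b with hs
  have hTmem : ∀ i, i ≠ a → i ≠ b → tri a b i ∈ T := fun i h1 h2 =>
    subset_closure ⟨i, ⟨h1, h2⟩, rfl⟩
  have hss : s * s = 1 := swap_mul_self _ _
  have hnorm : ∀ τ ∈ T, s * τ * s ∈ T := by
    intro τ hτ
    induction hτ using closure_induction with
    | mem x hx =>
      obtain ⟨i, ⟨h1, h2⟩, rfl⟩ := hx
      have : s * tri a b i * s = (tri a b i)⁻¹ := by
        rw [tri, mul_inv_rev, swap_inv, swap_inv, ← hs, ← mul_assoc, hss, one_mul]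
      rw [this]
      exact inv_mem (hTmem i h1 h2)
    | one => simp [hss]
    | mul x y _ _ hx hy =>
      have : s * (x * y) * s = (s * x * s) * (s * y * s) := by
        simp only [mul_assoc]; rw [← mul_assoc s s, hss, one_mul]
      rw [this]; exact mul_mem hx hy
    | inv x _ hx =>
      have : s * x⁻¹ * s = (s * x * s)⁻¹ := by rw [mul_inv_rev, mul_inv_rev, hs, swap_inv, mul_assoc]
      rw [this]; exact inv_mem hx
  let S : Subgroup (Perm (Fin n)) :=
    { carrier := {σ | σ ∈ T ∨ σ * s ∈ T}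
      one_mem' := Or.inl (one_mem _)
      mul_mem' := by
        rintro x y (hx | hx) (hy | hy)
        · exact Or.inl (mul_mem hx hy)
        · exact Or.inr (by rw [mul_assoc]; exact mul_mem hx hy)
        · refine Or.inr ?_
          rw [show x * y * s = (x * s) * (s * y * s) by
            simp only [mul_assoc]; rw [← mul_assoc s s, hss, one_mul]]
          exact mul_mem hx (hnorm y hy)
        · refine Or.inl ?_
          rw [show x * y = (x * s) * (s * (y * s) * s) by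
            simp only [mul_assoc]; rw [hss, mul_one, ← mul_assoc s s, hss, one_mul]]
          exact mul_mem hx (hnorm _ hy)
      inv_mem' := by
        rintro x (hx | hx)
        · exact Or.inl (inv_mem hx)
        · refine Or.inr ?_
          rw [show x⁻¹ * s = s * (x * s)⁻¹ * s by
            rw [mul_inv_rev, ← mul_assoc, hs, swap_inv, swap_mul_self, one_mul]]
          exact hnorm _ (inv_mem hx) }
  have hSs : s ∈ S := Or.inr (by rw [hss]; exact one_mem _)
  have hSa : ∀ i, i ≠ a → swap a i ∈ S := by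
    intro i hi
    rcases eq_or_ne i b with rfl | hib
    · exact hSs
    · have : swap a i = s * tri a b i := by rw [tri, ← hs, ← mul_assoc, hss, one_mul]
      rw [this]
      exact mul_mem hSs (Or.inl (hTmem i hi hib))
  have htop : (⊤ : Subgroup (Perm (Fin n))) ≤ S := by
    rw [← Perm.closure_isSwap, closure_le]
    rintro σ ⟨i, j, hij, rfl⟩
    by_cases hia : i = a
    · subst hia; exact hSa j hij.symm
    by_cases hja : j = a
    · subst hja; rw [swap_comm]; exact hSa i hia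
    have h1 : swap i j = swap a i * swap a j * (swap a i)⁻¹ := by
      have := Equiv.swap_apply_apply (swap a i) a j
      rwa [swap_apply_left, swap_apply_of_ne_of_ne hja hij.symm] at this
    rw [h1]
    exact mul_mem (mul_mem (hSa i hia) (hSa j hja)) (inv_mem (hSa i hia))
  intro σ hσ
  rcases htop (Subgroup.mem_top σ) with h | h
  · exact h
  · exfalso
    have h1 : ∀ τ ∈ T, Perm.sign τ = 1 := by
      intro τ hτ
      induction hτ using closure_induction with
      | mem x hx =>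
        obtain ⟨i, ⟨h1, h2⟩, rfl⟩ := hx
        rw [tri, map_mul, Perm.sign_swap hab, Perm.sign_swap h1.symm]; rfl
      | one => exact map_one _
      | mul x y _ _ hx hy => rw [map_mul, hx, hy, one_mul]
      | inv x _ hx => rw [map_inv, hx, inv_one]
    have := h1 _ h
    rw [map_mul, Perm.mem_alternatingGroup.1 hσ, hs, Perm.sign_swap hab, one_mul] at this
    exact absurd this (by decide)

/-- The bound for `n ≥ 5` other than six and seven. -/
theorem card_ker_le_two [Finite Γ] (H : IsExt f Z) (hd : Z ≤ _root_.commutator Γ) (h5 : 5 ≤ n)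
    (h6 : n ≠ 6) (h7 : n ≠ 7) : Nat.card Z ≤ 2 := by
  classical
  obtain ⟨a, b, hab⟩ : ∃ a b : Fin n, a ≠ b := ⟨⟨0, by omega⟩, ⟨1, by omega⟩, by simp⟩
  set ι : Finset (Fin n) := (Finset.univ.erase a).erase b with hι
  have hmem : ∀ i ∈ ι, i ≠ a ∧ i ≠ b := fun i hi => by
    simp only [hι, Finset.mem_erase] at hi; exact ⟨hi.2.1, hi.1⟩
  have hmem' : ∀ i, i ≠ a → i ≠ b → i ∈ ι := fun i h1 h2 => by simp [hι, h1, h2]
  have htri : ∀ {u v i : Fin n}, u ≠ v → u ≠ i → v ≠ i → (tri u v i).IsThreeCycle :=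
    fun h1 h2 h3 => Perm.isThreeCycle_swap_mul_swap_same h1 h2 h3
  have hex : ∀ i, ∃ X, i ∈ ι → f X = tri a b i ∧ Canon f X := by
    intro i
    by_cases hi : i ∈ ι
    · obtain ⟨X, hX⟩ := exists_canon H h5 (htri hab (hmem i hi).1.symm (hmem i hi).2.symm)
      exact ⟨X, fun _ => hX⟩
    · exact ⟨1, fun h => absurd h hi⟩
  choose X hX using hex
  let q : Fin n → Fin n → Γ := fun i j => X i * X j * (X i * X j)
  have hqZ : ∀ i ∈ ι, ∀ j ∈ ι, i ≠ j → q i j ∈ Z := by
    intro i hi j hj hij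
    refine (H.ker _).1 ?_
    show f (X i * X j * (X i * X j)) = 1
    rw [map_mul, map_mul, (hX i hi).1, (hX j hj).1]
    obtain ⟨hia, hib⟩ := hmem i hi
    obtain ⟨hja, hjb⟩ := hmem j hj
    have h1 : tri a b i * tri a b j = swap b i * swap a j := by
      have h2 := Equiv.swap_apply_apply (swap a b) a i
      rw [swap_apply_left, swap_apply_of_ne_of_ne hia hib, swap_inv] at h2
      rw [h2, tri, tri]; simp only [mul_assoc]
    rw [h1]
    have hd : Perm.Disjoint (swap b i) (swap a j) := fun k => by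
      by_cases hk : k = b ∨ k = i
      · right
        rcases hk with rfl | rfl
        · exact swap_apply_of_ne_of_ne hab.symm hjb.symm
        · exact swap_apply_of_ne_of_ne hia hij
      · left
        exact swap_apply_of_ne_of_ne (fun h => hk (Or.inl h)) (fun h => hk (Or.inr h))
    rw [hd.commute.symm.mul_mul_mul_comm, swap_mul_self, swap_mul_self, one_mul]
  have hsymm : ∀ i ∈ ι, ∀ j ∈ ι, i ≠ j → q j i = q i j := by
    intro i hi j hj hij
    have h1 : q j i = X j * q i j * (X j)⁻¹ := by simp [q, mul_assoc]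
    rw [h1, (H.comm (hqZ i hi j hj hij) (X j)).eq, mul_inv_cancel_right]
  -- conjugation by an element fixing `a`, `b`
  have hmove : ∀ g : Γ, f g a = a → f g b = b → ∀ i ∈ ι, f g i ∈ ι →
      g * X i * g⁻¹ = X (f g i) := by
    intro g ha hb i hi hi'
    refine canon_unique H h6 h7 (canon_conj (hX i hi).2 g) (hX _ hi').2 ?_
    rw [map_mul, map_mul, map_inv, (hX i hi).1, conj_tri, ha, hb, (hX _ hi').1]
  have hrot : ∀ i ∈ ι, ∀ j ∈ ι, ∀ k ∈ ι, i ≠ j → j ≠ k → i ≠ k → q j k = q i j := by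
    intro i hi j hj k hk hij hjk hik
    obtain ⟨hia, hib⟩ := hmem i hi
    obtain ⟨hja, hjb⟩ := hmem j hj
    obtain ⟨hka, hkb⟩ := hmem k hk
    obtain ⟨g, hg⟩ := H.surj (swap i k * swap i j)
      (htri (u := i) (v := k) (i := j) hik hij hjk.symm).mem_alternatingGroup
    have hfi : f g i = j := by
      rw [hg, Perm.mul_apply, swap_apply_left, swap_apply_of_ne_of_ne hij.symm hjk]
    have hfj : f g j = k := by rw [hg, Perm.mul_apply, swap_apply_right, swap_apply_left]
    have hfa : f g a = a := by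
      rw [hg, Perm.mul_apply, swap_apply_of_ne_of_ne hia.symm hja.symm,
        swap_apply_of_ne_of_ne hia.symm hka.symm]
    have hfb : f g b = b := by
      rw [hg, Perm.mul_apply, swap_apply_of_ne_of_ne hib.symm hjb.symm,
        swap_apply_of_ne_of_ne hib.symm hkb.symm]
    have hi' := hmove g hfa hfb i hi (by rw [hfi]; exact hj)
    have hj' := hmove g hfa hfb j hj (by rw [hfj]; exact hk)
    rw [hfi] at hi'; rw [hfj] at hj'
    have h1 : q j k = g * q i j * g⁻¹ := by
      show X j * X k * (X j * X k) = _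
      rw [← hi', ← hj']; simp [q, mul_assoc]
    rw [h1, (H.comm (hqZ i hi j hj hij) g).eq, mul_inv_cancel_right]
  have hshift : ∀ i ∈ ι, ∀ j ∈ ι, ∀ k ∈ ι, i ≠ j → j ≠ k → i ≠ k → q i j = q i k := by
    intro i hi j hj k hk hij hjk hik
    rw [← hrot i hi j hj k hk hij hjk hik, ← hrot j hj k hk i hi hjk hik.symm hij.symm,
      hsymm i hi k hk hik]
  have hιcard : ι.card + 2 = n := by
    rw [hι, Finset.card_erase_of_mem (by simp [hab.symm]), Finset.card_erase_of_mem (by simp),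
      Finset.card_univ, Fintype.card_fin]
    omega
  obtain ⟨i₀, hi₀, j₀, hj₀, hij₀⟩ : ∃ i ∈ ι, ∃ j ∈ ι, i ≠ j := Finset.one_lt_card.1 (by omega)
  set z := q i₀ j₀
  have hall : ∀ i ∈ ι, ∀ j ∈ ι, i ≠ j → q i j = z := by
    intro i hi j hj hij
    by_cases hii : i = i₀
    · subst hii
      by_cases hjj : j = j₀
      · rw [hjj]
      · exact hshift i hi j hj j₀ hj₀ hij hjj hij₀
    · by_cases hij' : i = j₀
      · subst hij'
        rw [show z = q i i₀ from hsymm i hi i₀ hi₀ hii]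
        by_cases hjj : j = i₀
        · rw [hjj]
        · exact hshift i hi j hj i₀ hi₀ hij hjj hii
      · -- both `i₀` and `j₀` differ from `i`
        have e1 : q i i₀ = z := by
          rw [← hsymm i hi i₀ hi₀ hii]
          exact hshift i₀ hi₀ i hi j₀ hj₀ (Ne.symm hii) hij' hij₀
        by_cases hjj : j = i₀
        · rw [hjj]; exact e1
        · rw [hshift i hi j hj i₀ hi₀ hij hjj hii]; exact e1
  have hzZ : z ∈ Z := hqZ i₀ hi₀ j₀ hj₀ hij₀
  -- `z` is an involution
  have hz2 : z * z = 1 := by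
    obtain ⟨hia, hib⟩ := hmem i₀ hi₀
    obtain ⟨hja, hjb⟩ := hmem j₀ hj₀
    obtain ⟨g, hg⟩ := H.surj (swap a b * swap i₀ j₀) (by
      rw [Perm.mem_alternatingGroup, map_mul, Perm.sign_swap hab, Perm.sign_swap hij₀]; rfl)
    have hfa : f g a = b := by
      rw [hg, Perm.mul_apply, swap_apply_of_ne_of_ne hia.symm hja.symm, swap_apply_left]
    have hfb : f g b = a := by
      rw [hg, Perm.mul_apply, swap_apply_of_ne_of_ne hib.symm hjb.symm, swap_apply_right]
    have hfi : f g i₀ = j₀ := by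
      rw [hg, Perm.mul_apply, swap_apply_left, swap_apply_of_ne_of_ne hja hjb]
    have hfj : f g j₀ = i₀ := by
      rw [hg, Perm.mul_apply, swap_apply_right, swap_apply_of_ne_of_ne hia hib]
    have hmove' : ∀ i ∈ ι, f g i ∈ ι → g * X i * g⁻¹ = (X (f g i))⁻¹ := by
      intro i hi hi'
      refine canon_unique H h6 h7 (canon_conj (hX i hi).2 g) (canon_inv (hX _ hi').2) ?_
      rw [map_mul, map_mul, map_inv, (hX i hi).1, conj_tri, hfa, hfb, map_inv, (hX _ hi').1,
        tri_inv a b _ (hmem _ hi').1.symm (hmem _ hi').2.symm]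
    have hi' := hmove' i₀ hi₀ (by rw [hfi]; exact hj₀)
    have hj' := hmove' j₀ hj₀ (by rw [hfj]; exact hi₀)
    rw [hfi] at hi'; rw [hfj] at hj'
    have h1 : g * z * g⁻¹ = (q i₀ j₀)⁻¹ := by
      calc g * z * g⁻¹ = (g * X i₀ * g⁻¹) * (g * X j₀ * g⁻¹) *
            ((g * X i₀ * g⁻¹) * (g * X j₀ * g⁻¹)) := by simp [z, q, mul_assoc]
        _ = _ := by rw [hi', hj']; simp [q, mul_assoc]
    rw [(H.comm hzZ g).eq, mul_inv_cancel_right] at h1
    exact eq_inv_iff_mul_eq_one.1 h1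
  -- generation
  set G₁ := closure (X '' (ι : Set (Fin n))) with hG₁
  have hsurj : ∀ g : Γ, ∃ h ∈ G₁, ∃ u ∈ Z, g = h * u := by
    intro g
    have h1 : f g ∈ G₁.map f := by
      rw [hG₁, MonoidHom.map_closure]
      refine closure_mono ?_ (closure_tri a b hab (H.even g))
      rintro _ ⟨i, ⟨h1, h2⟩, rfl⟩
      exact ⟨X i, ⟨i, hmem' i h1 h2, rfl⟩, (hX i (hmem' i h1 h2)).1⟩
    obtain ⟨h, hh, hhg⟩ := h1
    obtain ⟨u, hu, hgu⟩ := H.diff hhg
    exact ⟨h, hh, u, hu, hgu⟩
  have hZG : Z ≤ G₁ := by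
    refine hd.trans ?_
    rw [_root_.commutator_def, Subgroup.commutator_le]
    intro g₁ _ g₂ _
    obtain ⟨k₁, hk₁, u₁, hu₁, rfl⟩ := hsurj g₁
    obtain ⟨k₂, hk₂, u₂, hu₂, rfl⟩ := hsurj g₂
    have e1 : k₁ * u₁ * (k₂ * u₂) * (k₁ * u₁)⁻¹ = k₁ * k₂ * k₁⁻¹ * u₂ := by
      calc k₁ * u₁ * (k₂ * u₂) * (k₁ * u₁)⁻¹ = k₁ * (u₁ * (k₂ * u₂)) * u₁⁻¹ * k₁⁻¹ := by group
        _ = k₁ * ((k₂ * u₂) * u₁) * u₁⁻¹ * k₁⁻¹ := by rw [(H.comm hu₁ (k₂ * u₂)).eq]
        _ = k₁ * k₂ * (u₂ * k₁⁻¹) := by group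
        _ = k₁ * k₂ * (k₁⁻¹ * u₂) := by rw [(H.comm hu₂ k₁⁻¹).eq]
        _ = _ := by group
    have : ⁅k₁ * u₁, k₂ * u₂⁆ = ⁅k₁, k₂⁆ := by
      rw [commutatorElement_def, commutatorElement_def, e1, mul_inv_rev k₂ u₂]
      group
    rw [this, commutatorElement_def]
    exact mul_mem (mul_mem (mul_mem hk₁ hk₂) (inv_mem hk₁)) (inv_mem hk₂)
  have htop : G₁ = ⊤ := top_le_iff.1 fun g _ => by
    obtain ⟨h, hh, u, hu, rfl⟩ := hsurj g
    exact mul_mem hh (hZG hu)
  -- counting
  set B := zpowers z with hB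
  have hBZ : B ≤ Z := (zpowers_le).2 hzZ
  haveI : B.Normal := ⟨fun x hx g => by
    rwa [(H.comm (hBZ hx) g).eq, mul_inv_cancel_right]⟩
  let π := QuotientGroup.mk' B
  have hQ : 2 * Nat.card (Γ ⧸ B) ≤ n.factorial := by
    have h1 := carmichael_bound (fun i => π (X i)) ι
      (fun i hi => by rw [← map_mul, ← map_mul, (hX i hi).2.2.1, map_one])
      (fun i hi j hj hij => by
        rw [← map_mul, ← map_mul]
        refine (QuotientGroup.eq_one_iff _).2 ?_
        show q i j ∈ B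
        rw [hall i hi j hj hij]; exact mem_zpowers z)
    rw [hιcard] at h1
    have h2 : closure ((fun i => π (X i)) '' (ι : Set (Fin n))) = ⊤ := by
      rw [← Set.image_image, ← MonoidHom.map_closure, ← hG₁, htop,
        Subgroup.map_top_of_surjective π (QuotientGroup.mk'_surjective B)]
    rwa [h2, Subgroup.card_top] at h1
  have hrange : Nat.card (Γ ⧸ f.ker) = Nat.card (alternatingGroup (Fin n)) := by
    rw [Nat.card_congr (QuotientGroup.quotientKerEquivRange f).toEquiv]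
    congr 2
    · exact le_antisymm (by rintro _ ⟨g, rfl⟩; exact H.even g) fun σ hσ => H.surj σ hσ
  have hker : f.ker = Z := by ext g; rw [MonoidHom.mem_ker]; exact H.ker g
  haveI : Nontrivial (Fin n) := ⟨⟨a, b, hab⟩⟩
  have hA : 2 * Nat.card (alternatingGroup (Fin n)) = n.factorial := by
    rw [two_mul_nat_card_alternatingGroup, Nat.card_perm, Nat.card_fin]
  have hBc : Nat.card B ≤ 2 := by
    rw [Nat.card_zpowers]
    exact orderOf_le_of_pow_eq_one (by norm_num) (by rw [pow_two, hz2])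
  have hΓ1 : Nat.card Γ = Nat.card (Γ ⧸ B) * Nat.card B := card_eq_card_quotient_mul_card_subgroup B
  have hΓ2 : Nat.card Γ = Nat.card (Γ ⧸ f.ker) * Nat.card f.ker :=
    card_eq_card_quotient_mul_card_subgroup f.ker
  rw [hrange, hker] at hΓ2
  have hpos : 0 < Nat.card (alternatingGroup (Fin n)) := Nat.card_pos
  refine Nat.le_of_mul_le_mul_left ?_ hpos
  rw [← hΓ2, hΓ1]
  exact Nat.mul_le_mul (by omega) hBc

end Cfsg.Agent.SpinCover.Multiplier
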