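import Mathlib

/-!
# The double cover of `A_8` inside `GL₁₆(𝔽₃)`

Eight anticommuting signed permutation matrices with square one; the elements permuting them evenly
by conjugation form the double cover `2·A_8`.
-/

set_option autoImplicit false

open scoped Pointwise

namespace Cfsg.Agent.SpinCover

abbrev F3 := ZMod 3
abbrev M16 := Matrix (Fin 16) (Fin 16) F3
/-- A signed permutation of `Fin 16`, as a pair of functions. -/
abbrev SP := (Fin 16 → Fin 16) × (Fin 16 → F3)

/-- The monomial matrix of a pair. -/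
def mono (p : SP) : M16 := Matrix.of fun i j => if j = p.1 i then p.2 i else 0

/-- The composition of pairs. -/
def smul' (p q : SP) : SP := (fun i => q.1 (p.1 i), fun i => p.2 i * q.2 (p.1 i))

theorem mono_apply (p : SP) (i j : Fin 16) : mono p i j = if j = p.1 i then p.2 i else 0 := rfl

theorem mono_smul (p q : SP) : mono p * mono q = mono (smul' p q) := by
  ext i j
  rw [Matrix.mul_apply, Finset.sum_eq_single (p.1 i) (fun k _ hk => by simp [mono_apply, hk])
    (by simp)]
  simp [mono_apply, smul']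

theorem mono_neg (p : SP) : mono (p.1, -p.2) = -mono p := by
  ext i j
  simp only [mono_apply, Matrix.neg_apply, Pi.neg_apply]
  split_ifs <;> simp

theorem mono_one : mono (id, fun _ => 1) = 1 := by
  ext i j
  simp [mono_apply, Matrix.one_apply, eq_comm]

/-- The sign `(-1)^(b·i)`. -/
def sgn (b i : ℕ) : F3 :=
  (List.range 4).foldl (fun acc k => if b.testBit k && i.testBit k then -acc else acc) 1

/-- The Pauli operator with parameters `a`, `b`. -/
def pauli (a b : ℕ) : SP := (fun i => Fin.ofNat 16 (i.val ^^^ a), fun i => sgn b i.val)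

/-- The eight generators. -/
def gen : Fin 8 → SP :=
  ![pauli 0 1, pauli 1 0, pauli 3 3, pauli 5 7, pauli 7 13, pauli 9 15, pauli 11 9, pauli 13 11]

/-- The eight anticommuting matrices. -/
def e (k : Fin 8) : M16 := mono (gen k)

theorem e_sq (k : Fin 8) : e k * e k = 1 := by
  have h : ∀ k : Fin 8, smul' (gen k) (gen k) = (id, fun _ => 1) := by decide +kernel
  rw [e, mono_smul, h, mono_one]

theorem e_anti {k l : Fin 8} (hkl : k ≠ l) : e k * e l = -(e l * e k) := by
  have h : ∀ k l : Fin 8, k ≠ l →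
      smul' (gen k) (gen l) = ((smul' (gen l) (gen k)).1, -(smul' (gen l) (gen k)).2) := by
    decide +kernel
  rw [e, e, mono_smul, mono_smul, h k l hkl, mono_neg]

theorem e_injective : Function.Injective e := by
  intro k l hkl
  by_contra hne
  have h1 := e_anti hne
  rw [hkl, e_sq] at h1
  have h2 := congrFun (congrFun h1 0) 0
  simp at h2
  revert h2; decide

theorem e_mul_e (k : Fin 8) (x : M16) : e k * (e k * x) = x := by
  rw [← mul_assoc, e_sq, one_mul]

/-- The signed permutation of a word in the generators. -/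
def word (l : List (Fin 8)) : SP := l.foldr (fun k p => smul' (gen k) p) (id, fun _ => 1)

theorem commute_word {g : M16} (h : ∀ k, Commute g (e k)) :
    ∀ l : List (Fin 8), Commute g (mono (word l))
  | [] => by rw [word, List.foldr_nil, mono_one]; exact Commute.one_right g
  | k :: l => by
    rw [word, List.foldr_cons, ← mono_smul]
    exact (h k).mul_right (commute_word h l)

/-- Words acting diagonally by the four bit characters. -/
def diagWord : Fin 4 → List (Fin 8) :=
  ![[0], [0, 1, 3, 5, 7], [0, 1, 2, 5, 6], [0, 1, 2, 3, 4]]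

/-- Words flipping one bit. -/
def flipWord : Fin 4 → List (Fin 8) := ![[1], [2, 3, 5, 7], [0, 1, 2, 6, 7], [4, 5, 6, 7]]

/-- The commutant of the generators consists of scalars. -/
theorem eq_scalar {g : M16} (h : ∀ k, Commute g (e k)) : g = Matrix.scalar (Fin 16) (g 0 0) := by
  have hd : ∀ b : Fin 4, ∀ i, (word (diagWord b)).1 i = i := by decide +kernel
  have hsep : ∀ i j : Fin 16, i ≠ j →
      ∃ b : Fin 4, (word (diagWord b)).2 i ≠ (word (diagWord b)).2 j := by decide +kernel
  have hf : ∀ b : Fin 4, ∀ i, (word (flipWord b)).2 i = (word (flipWord b)).2 0 ∧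
      (word (flipWord b)).2 0 ≠ 0 ∧ (word (flipWord b)).1 ((word (flipWord b)).1 i) = i := by
    decide +kernel
  have hreach : ∀ i : Fin 16,
      List.foldl (fun x b => if x.val.testBit b.val then (word (flipWord b)).1 x else x) i
        (List.finRange 4) = 0 := by decide +kernel
  have hcom := fun l i j => congrFun (congrFun (commute_word h l).eq i) j
  have hl : ∀ (p : SP) i j, (mono p * g) i j = p.2 i * g (p.1 i) j := by
    intro p i j
    rw [Matrix.mul_apply, Finset.sum_eq_single (p.1 i) (fun k _ hk => by simp [mono_apply, hk])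
      (by simp)]
    simp [mono_apply]
  have hr : ∀ (p : SP), (∀ i, p.1 (p.1 i) = i) → ∀ i j,
      (g * mono p) i j = g i (p.1 j) * p.2 (p.1 j) := by
    intro p hp i j
    rw [Matrix.mul_apply, Finset.sum_eq_single (p.1 j)
      (fun k _ hk => by
        rw [mono_apply, if_neg, mul_zero]
        intro hjk
        exact hk (by rw [hjk, hp]))
      (by simp)]
    simp [mono_apply, hp]
  have hoff : ∀ i j, i ≠ j → g i j = 0 := by
    intro i j hij
    obtain ⟨b, hb⟩ := hsep i j hij
    have h1 := hcom (diagWord b) i j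
    rw [hl, hr _ (fun x => by rw [hd, hd]), hd, hd] at h1
    have h2 : g i j * ((word (diagWord b)).2 j - (word (diagWord b)).2 i) = 0 := by
      rw [mul_sub, h1]; ring
    exact (mul_eq_zero.1 h2).resolve_right (sub_ne_zero.2 (Ne.symm hb))
  have hstep : ∀ b i, g ((word (flipWord b)).1 i) ((word (flipWord b)).1 i) = g i i := by
    intro b i
    have h1 := hcom (flipWord b) i ((word (flipWord b)).1 i)
    rw [hl, hr _ (fun x => (hf b x).2.2), (hf b i).2.2, (hf b i).1, mul_comm] at h1
    exact (mul_left_cancel₀ (hf b i).2.1 h1).symm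
  have hdiag : ∀ i, g i i = g 0 0 := by
    intro i
    have : ∀ (l : List (Fin 4)) (x : Fin 16),
        g (l.foldl (fun x b => if x.val.testBit b.val then (word (flipWord b)).1 x else x) x)
          (l.foldl (fun x b => if x.val.testBit b.val then (word (flipWord b)).1 x else x) x) =
        g x x := by
      intro l
      induction l with
      | nil => intro x; rfl
      | cons b l ih =>
        intro x
        rw [List.foldl_cons, ih]
        split_ifs
        · exact hstep b x
        · rfl
    rw [← this (List.finRange 4) i, hreach i]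
  ext i j
  by_cases hij : i = j
  · subst hij; simp [hdiag i]
  · simp [hij, hoff i j hij]

/-- `g` moves the generators according to `σ`. -/
def Permutes (g : M16) (σ : Equiv.Perm (Fin 8)) : Prop := ∀ k, g * e k = e (σ k) * g

/-- The reflection in `e i - e j`. -/
def refl' (i j : Fin 8) : M16 := e i - e j

theorem refl_mul (i j : Fin 8) (hij : i ≠ j) (k : Fin 8) :
    refl' i j * e k = -(e (Equiv.swap i j k) * refl' i j) := by
  unfold refl'
  by_cases hki : k = i
  · subst hki
    rw [Equiv.swap_apply_left, sub_mul, mul_sub, e_sq, e_sq]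
    abel
  by_cases hkj : k = j
  · subst hkj
    rw [Equiv.swap_apply_right, sub_mul, mul_sub, e_sq, e_sq]
    abel
  rw [Equiv.swap_apply_of_ne_of_ne hki hkj, sub_mul, mul_sub, e_anti (Ne.symm hki),
    e_anti (Ne.symm hkj)]
  abel

theorem refl_sq (i j : Fin 8) (hij : i ≠ j) : refl' i j * refl' i j = -1 := by
  unfold refl'
  rw [sub_mul, mul_sub, mul_sub, e_sq, e_sq, e_anti hij]
  have : (1 : M16) + 1 + 1 = 0 := by
    ext a b
    simp only [Matrix.add_apply, Matrix.one_apply, Matrix.zero_apply]
    split_ifs <;> decide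
  calc (1 : M16) - -(e j * e i) - (e j * e i - 1) = (1 : M16) + 1 := by abel
    _ = -1 := eq_neg_of_add_eq_zero_left this

theorem exists_unit (σ : Equiv.Perm (Fin 8)) : ∃ g : M16ˣ,
    ∀ k, (g : M16) * e k = (Equiv.Perm.sign σ : ℤ) • (e (σ k) * (g : M16)) := by
  induction σ using Equiv.Perm.swap_induction_on with
  | one => exact ⟨1, fun k => by simp⟩
  | swap_mul τ x y hxy ih =>
    obtain ⟨g, hg⟩ := ih
    have hu : refl' x y * -refl' x y = 1 := by rw [mul_neg, refl_sq x y hxy, neg_neg]
    have hu' : -refl' x y * refl' x y = 1 := by rw [neg_mul, refl_sq x y hxy, neg_neg]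
    refine ⟨⟨_, _, hu, hu'⟩ * g, fun k => ?_⟩
    rw [Units.val_mul, mul_assoc, hg k, mul_smul_comm, ← mul_assoc, refl_mul x y hxy,
      Equiv.Perm.sign_mul, Equiv.Perm.sign_swap hxy, Equiv.Perm.mul_apply]
    simp [neg_smul, mul_assoc]

/-- The double cover of `A_8`. -/
def cover : Subgroup M16ˣ where
  carrier := {g | ∃ σ ∈ alternatingGroup (Fin 8), Permutes (g : M16) σ}
  one_mem' := ⟨1, one_mem _, fun k => by simp⟩
  mul_mem' := by
    rintro a b ⟨σ, hσ, ha⟩ ⟨τ, hτ, hb⟩
    refine ⟨σ * τ, mul_mem hσ hτ, fun k => ?_⟩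
    rw [Units.val_mul, mul_assoc, hb k, ← mul_assoc, ha (τ k), mul_assoc]
    rfl
  inv_mem' := by
    rintro a ⟨σ, hσ, ha⟩
    refine ⟨σ⁻¹, inv_mem hσ, fun k => ?_⟩
    have h1 := ha (σ⁻¹ k)
    rw [show σ (σ⁻¹ k) = k from σ.apply_symm_apply k] at h1
    have h2 := congrArg (fun x : M16 => ↑a⁻¹ * x * ↑a⁻¹) h1
    simpa [mul_assoc] using h2.symm

theorem permutes_unique {g : M16ˣ} {σ τ : Equiv.Perm (Fin 8)} (h1 : Permutes (g : M16) σ)
    (h2 : Permutes (g : M16) τ) : σ = τ :=
  Equiv.ext fun k => e_injective (g.mul_left_inj.1 ((h1 k).symm.trans (h2 k)))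

/-- The projection onto `A_8`. -/
noncomputable def proj : cover →* alternatingGroup (Fin 8) where
  toFun g := ⟨g.2.choose, g.2.choose_spec.1⟩
  map_one' := Subtype.ext (permutes_unique (1 : cover).2.choose_spec.2 (fun k => by simp))
  map_mul' a b := Subtype.ext (permutes_unique (a * b).2.choose_spec.2 fun k => by
    rw [Subgroup.coe_mul, Units.val_mul, mul_assoc, b.2.choose_spec.2 k, ← mul_assoc,
      a.2.choose_spec.2 _, mul_assoc]
    rfl)

theorem proj_spec (g : cover) : Permutes ((g : M16ˣ) : M16) (proj g : Equiv.Perm (Fin 8)) :=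
  g.2.choose_spec.2

theorem proj_eq {g : cover} {σ : Equiv.Perm (Fin 8)} (h : Permutes ((g : M16ˣ) : M16) σ) :
    (proj g : Equiv.Perm (Fin 8)) = σ := permutes_unique (proj_spec g) h

theorem proj_surjective : Function.Surjective proj := by
  rintro ⟨σ, hσ⟩
  obtain ⟨g, hg⟩ := exists_unit σ
  have hp : Permutes (g : M16) σ := fun k => by
    rw [hg k, Equiv.Perm.mem_alternatingGroup.1 hσ, Units.val_one, one_smul]
  exact ⟨⟨g, σ, hσ, hp⟩, Subtype.ext (proj_eq (g := ⟨g, σ, hσ, hp⟩) hp)⟩

theorem neg_one_mem : (-1 : M16ˣ) ∈ cover := ⟨1, one_mem _, fun k => by simp⟩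

theorem neg_one_ne_one : (-1 : M16ˣ) ≠ 1 := fun h => by
  have h0 : (-1 : M16) = 1 := congrArg Units.val h
  have := congrArg (fun m : M16 => m 0 0) h0
  simp at this
  revert this; decide

theorem ker_cases {g : cover} (hg : g ∈ proj.ker) : (g : M16ˣ) = 1 ∨ (g : M16ˣ) = -1 := by
  have h1 : (proj g : Equiv.Perm (Fin 8)) = 1 := by rw [proj.mem_ker.1 hg]; rfl
  have hc : ∀ k, Commute ((g : M16ˣ) : M16) (e k) := fun k => by
    have h2 := proj_spec g k
    rw [h1] at h2
    exact h2
  have hs := eq_scalar hc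
  have hall : ∀ c : F3, c = 0 ∨ c = 1 ∨ c = -1 := by decide
  rcases hall (((g : M16ˣ) : M16) 0 0) with h | h | h <;> rw [h] at hs
  · exfalso
    have h3 : ((g : M16ˣ) : M16) = 0 := by rw [hs, map_zero]
    exact (g : M16ˣ).ne_zero h3
  · left; exact Units.ext (by rw [hs, map_one]; rfl)
  · right; exact Units.ext (by rw [hs, map_neg, map_one]; rfl)

/-- The central involution. -/
def z : cover := ⟨-1, neg_one_mem⟩

theorem z_ne_one : z ≠ 1 := fun h => neg_one_ne_one (congrArg Subtype.val h)

theorem center_eq_ker : Subgroup.center cover = proj.ker := by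
  refine le_antisymm (fun g hg => proj.mem_ker.2 ?_) (fun g hg => ?_)
  · have h1 : proj g ∈ Subgroup.center (alternatingGroup (Fin 8)) :=
      Subgroup.mem_center_iff.2 fun y => by
        obtain ⟨x, rfl⟩ := proj_surjective y
        rw [← map_mul, ← map_mul, Subgroup.mem_center_iff.1 hg x]
    rwa [alternatingGroup.center_eq_bot (by simp), Subgroup.mem_bot] at h1
  · refine Subgroup.mem_center_iff.2 fun y => Subtype.ext ?_
    rcases ker_cases hg with h | h <;> simp [h]

theorem z_mem_ker : z ∈ proj.ker :=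
  proj.mem_ker.2 (Subtype.ext (proj_eq (g := z) fun k => by simp [z]))

theorem card_center : Nat.card (Subgroup.center cover) = 2 := by
  refine (Nat.card_eq_two_iff' 1).2 ⟨⟨z, center_eq_ker ▸ z_mem_ker⟩,
    fun h => z_ne_one (congrArg Subtype.val h), fun y hy => ?_⟩
  rcases ker_cases (show (y : cover) ∈ proj.ker from center_eq_ker.le y.2) with h | h
  · exact absurd (Subtype.ext (Subtype.ext h)) hy
  · exact Subtype.ext (Subtype.ext h)

theorem refl_anti {i j k l : Fin 8} (hij : i ≠ j) (hki : k ≠ i) (hkj : k ≠ j) (hli : l ≠ i)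
    (hlj : l ≠ j) : refl' i j * refl' k l = -(refl' k l * refl' i j) := by
  show refl' i j * (e k - e l) = -((e k - e l) * refl' i j)
  rw [mul_sub, refl_mul i j hij, refl_mul i j hij, Equiv.swap_apply_of_ne_of_ne hki hkj,
    Equiv.swap_apply_of_ne_of_ne hli hlj, sub_mul]
  abel

/-- The lift of a double transposition. -/
theorem exists_pair {i j k l : Fin 8} (hij : i ≠ j) (hkl : k ≠ l) :
    ∃ g : cover, ((g : M16ˣ) : M16) = refl' i j * refl' k l ∧
      (proj g : Equiv.Perm (Fin 8)) = Equiv.swap i j * Equiv.swap k l := by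
  have hu : ∀ i j : Fin 8, i ≠ j → IsUnit (refl' i j) := fun i j h =>
    ⟨⟨refl' i j, -refl' i j, by rw [mul_neg, refl_sq i j h, neg_neg],
      by rw [neg_mul, refl_sq i j h, neg_neg]⟩, rfl⟩
  obtain ⟨u, hu'⟩ := (hu i j hij).mul (hu k l hkl)
  have hp : Permutes (u : M16) (Equiv.swap i j * Equiv.swap k l) := fun m => by
    rw [hu', mul_assoc, refl_mul k l hkl, mul_neg, ← mul_assoc, refl_mul i j hij, neg_mul, neg_neg,
      mul_assoc]
    rfl
  have hev : Equiv.swap i j * Equiv.swap k l ∈ alternatingGroup (Fin 8) := by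
    rw [Equiv.Perm.mem_alternatingGroup, Equiv.Perm.sign_mul, Equiv.Perm.sign_swap hij,
      Equiv.Perm.sign_swap hkl]
    rfl
  exact ⟨⟨u, _, hev, hp⟩, hu', proj_eq (g := ⟨u, _, hev, hp⟩) hp⟩

theorem pair_sq {i j k l : Fin 8} (hij : i ≠ j) (hkl : k ≠ l) (hki : k ≠ i) (hkj : k ≠ j)
    (hli : l ≠ i) (hlj : l ≠ j) :
    (refl' i j * refl' k l) * (refl' i j * refl' k l) = -1 := by
  rw [mul_assoc, ← mul_assoc (refl' k l)]
  rw [← neg_eq_iff_eq_neg.2 (refl_anti hij hki hkj hli hlj), neg_mul, mul_neg,
    mul_assoc (refl' i j), ← mul_assoc, ← mul_assoc, refl_sq i j hij, neg_one_mul, neg_mul,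
    neg_neg, refl_sq k l hkl]

theorem no_complement (L : Subgroup cover) : ¬ (Subgroup.center cover).IsComplement' L := by
  intro hL
  obtain ⟨g, hg, -⟩ := exists_pair (show (0 : Fin 8) ≠ 1 by decide) (show (2 : Fin 8) ≠ 3 by decide)
  have hgz : g * g = z := Subtype.ext (Units.ext (by
    show ((g : M16ˣ) : M16) * ((g : M16ˣ) : M16) = -1
    rw [hg]
    exact pair_sq (by decide) (by decide) (by decide) (by decide) (by decide) (by decide)))
  obtain ⟨c, hc, l, hl, hcl⟩ : g ∈ ((Subgroup.center cover : Set cover) * (L : Set cover)) :=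
    hL.mul_eq ▸ Set.mem_univ _
  change c * l = g at hcl
  have hc2 : c * c = 1 := by
    rcases ker_cases (center_eq_ker ▸ hc) with h | h <;> apply Subtype.ext <;> simp [h]
  have hll : l * l = z := by
    have h1 : Commute c l := (Subgroup.mem_center_iff.1 hc l).symm
    rw [← hgz, ← hcl, mul_assoc c l, ← mul_assoc l c l, ← h1.eq, ← mul_assoc, ← mul_assoc, hc2,
      one_mul]
  have hzL : z ∈ L := hll ▸ mul_mem hl hl
  exact z_ne_one (Subgroup.disjoint_def.1 hL.disjoint (center_eq_ker ▸ z_mem_ker) hzL)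

theorem exists_two_involutions : ∃ x y : cover, x ≠ y ∧ orderOf x = 2 ∧ orderOf y = 2 := by
  obtain ⟨u, hu, hpu⟩ := exists_pair (show (0 : Fin 8) ≠ 1 by decide) (show (2 : Fin 8) ≠ 3 by decide)
  obtain ⟨v, hv, hpv⟩ := exists_pair (show (4 : Fin 8) ≠ 5 by decide) (show (6 : Fin 8) ≠ 7 by decide)
  have hcomm : Commute ((u : M16ˣ) : M16) ((v : M16ˣ) : M16) := by
    rw [hu, hv]
    have key : ∀ a b c d : M16, a * c = -(c * a) → a * d = -(d * a) → b * c = -(c * b) →
        b * d = -(d * b) → (a * b) * (c * d) = (c * d) * (a * b) := fun a b c d h1 h2 h3 h4 => by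
      calc (a * b) * (c * d) = a * (b * c) * d := by simp [mul_assoc]
        _ = -(a * c * (b * d)) := by rw [h3]; simp [mul_assoc]
        _ = -(c * (a * d) * b) := by rw [h1, h4]; simp [mul_assoc]
        _ = c * d * (a * b) := by rw [h2]; simp [mul_assoc]
    refine key _ _ _ _ ?_ ?_ ?_ ?_ <;>
      exact refl_anti (by decide) (by decide) (by decide) (by decide) (by decide)
  have hsq : (u * v) * (u * v) = 1 := Subtype.ext (Units.ext (by
    show ((u : M16ˣ) : M16) * ((v : M16ˣ) : M16) * (((u : M16ˣ) : M16) * ((v : M16ˣ) : M16)) = 1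
    rw [← Commute.mul_mul_mul_comm hcomm, hu, hv,
      pair_sq (by decide) (by decide) (by decide) (by decide) (by decide) (by decide),
      pair_sq (by decide) (by decide) (by decide) (by decide) (by decide) (by decide),
      neg_mul_neg, one_mul]))
  have hproj : (proj (u * v) : Equiv.Perm (Fin 8)) ≠ 1 := by
    rw [map_mul, Subgroup.coe_mul, hpu, hpv]; decide
  refine ⟨z, u * v, fun h => hproj ?_, orderOf_eq_prime ?_ z_ne_one, orderOf_eq_prime ?_ ?_⟩
  · rw [← h, proj.mem_ker.1 z_mem_ker]; rfl
  · rw [sq]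
    exact Subtype.ext (by simp [z])
  · rw [sq, hsq]
  · intro h
    exact hproj (by rw [h, map_one]; rfl)

end Cfsg.Agent.SpinCover
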