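import Mathlib

/-!
# Even permutations as products of two permutations of equal cycle type

Every non-trivial even cycle type on at least five points is that of a product of two permutations
of one and the same even cycle type having at least two transpositions among its cycles.
-/

set_option autoImplicit false

namespace Cfsg.Agent.SpinCover.PairDecomp

open Equiv Multiset

/-- `T` is the type of a product of permutations of types `A` and `B` on `N` points. -/
def IsPairType (N : ℕ) (T A B : Multiset ℕ) : Prop :=
  ∃ u u' : Perm (Fin N), (u * u').cycleType = T ∧ u.cycleType = A ∧ u'.cycleType = B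

theorem IsPairType.symm {N : ℕ} {T A B : Multiset ℕ} (h : IsPairType N T A B) :
    IsPairType N T B A := by
  obtain ⟨u, u', h1, h2, h3⟩ := h
  refine ⟨u'⁻¹, u⁻¹, ?_, ?_, ?_⟩
  · rw [← mul_inv_rev, Perm.cycleType_inv, h1]
  · rw [Perm.cycleType_inv, h3]
  · rw [Perm.cycleType_inv, h2]

theorem zero (N : ℕ) : IsPairType N 0 0 0 := ⟨1, 1, by simp, by simp, by simp⟩

/-- A pair of equal transpositions. -/
theorem double : IsPairType 2 0 {2} {2} := by
  refine ⟨swap 0 1, swap 0 1, by simp, ?_, ?_⟩ <;>
  · rw [Perm.IsCycle.cycleType (Perm.isCycle_swap (by decide)),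
      Perm.card_support_swap (by decide)]

/-- Transport along an injection. -/
noncomputable def carry {N M : ℕ} (f : Fin N → Fin M) (hf : Function.Injective f) :
    Perm (Fin N) →* Perm (Fin M) :=
  Perm.extendDomainHom (Equiv.ofInjective f hf)

theorem cycleType_carry {N M : ℕ} (f : Fin N → Fin M) (hf : Function.Injective f)
    (u : Perm (Fin N)) : (carry f hf u).cycleType = u.cycleType := by
  classical
  exact Perm.cycleType_extendDomain _

theorem carry_apply {N M : ℕ} (f : Fin N → Fin M) (hf : Function.Injective f) (u : Perm (Fin N))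
    (x : Fin N) : carry f hf u (f x) = f (u x) := by
  classical
  exact Perm.extendDomain_apply_image u (Equiv.ofInjective f hf) x

theorem carry_fix {N M : ℕ} (f : Fin N → Fin M) (hf : Function.Injective f) (u : Perm (Fin N))
    {x : Fin M} (hx : x ∉ Set.range f) : carry f hf u x = x := by
  classical
  exact Perm.extendDomain_apply_not_subtype u (Equiv.ofInjective f hf) hx

theorem disjoint_carry {N N' M : ℕ} (f : Fin N → Fin M) (hf : Function.Injective f)
    (g : Fin N' → Fin M) (hg : Function.Injective g) (hfg : ∀ i j, f i ≠ g j) (u : Perm (Fin N))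
    (v : Perm (Fin N')) : Perm.Disjoint (carry f hf u) (carry g hg v) := by
  intro x
  by_cases hx : x ∈ Set.range f
  · right
    obtain ⟨i, rfl⟩ := hx
    exact carry_fix g hg v (fun ⟨j, hj⟩ => hfg i j hj.symm)
  · exact Or.inl (carry_fix f hf u hx)

theorem IsPairType.add {N M : ℕ} {T T' A A' B B' : Multiset ℕ} (h : IsPairType N T A B)
    (h' : IsPairType M T' A' B') : IsPairType (N + M) (T + T') (A + A') (B + B') := by
  obtain ⟨u, u', h1, h2, h3⟩ := h
  obtain ⟨v, v', h4, h5, h6⟩ := h'
  have hne : ∀ (i : Fin N) (j : Fin M), Fin.castAdd M i ≠ Fin.natAdd N j := fun i j hij => by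
    have h1 := congrArg Fin.val hij
    have h2 := i.2
    simp only [Fin.val_castAdd, Fin.val_natAdd] at h1
    omega
  have hf := Fin.castAdd_injective N M
  have hg := Fin.natAdd_injective M N
  have hd := disjoint_carry (Fin.castAdd M) hf (Fin.natAdd N) hg hne
  refine ⟨carry _ hf u * carry _ hg v, carry _ hf u' * carry _ hg v', ?_, ?_, ?_⟩
  · have hc : carry _ hg v * carry _ hf u' = carry _ hf u' * carry _ hg v :=
      ((hd u' v).commute).eq.symm
    have : carry _ hf u * carry _ hg v * (carry _ hf u' * carry _ hg v') =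
        carry _ hf (u * u') * carry _ hg (v * v') := by
      rw [map_mul, map_mul, mul_assoc, ← mul_assoc (carry _ hg v), hc, mul_assoc, ← mul_assoc]
    rw [this, (hd _ _).cycleType_mul, cycleType_carry, cycleType_carry, h1, h4]
  · rw [(hd _ _).cycleType_mul, cycleType_carry, cycleType_carry, h2, h5]
  · rw [(hd _ _).cycleType_mul, cycleType_carry, cycleType_carry, h3, h6]

theorem IsPairType.mono {N M : ℕ} {T A B : Multiset ℕ} (h : IsPairType N T A B) (hNM : N ≤ M) :
    IsPairType M T A B := by
  have := h.add (zero (M - N))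
  rwa [add_zero, add_zero, add_zero, Nat.add_sub_cancel' hNM] at this

/-- Lengthening a cycle by two. -/
theorem grow {N : ℕ} {A B : Multiset ℕ} (h : IsPairType N {N} A B) (h2 : 2 ∈ B) :
    IsPairType (N + 2) {N + 2} (2 ::ₘ A) (2 ::ₘ B) := by
  classical
  obtain ⟨u, u', h1, hu, hu'⟩ := h
  obtain ⟨c, w, hcw, hd, hc, hc2⟩ := Perm.mem_cycleType_iff.1 (hu' ▸ h2)
  obtain ⟨p, q, hpq, hcs⟩ := Perm.card_support_eq_two.1 hc2
  subst hcs
  have hw : B = 2 ::ₘ w.cycleType := by
    rw [← hu', hcw, hd.cycleType_mul, hc.cycleType, hc2]; simp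
  -- move to the larger set
  set f : Fin N → Fin (N + 2) := Fin.castAdd 2 with hfdef
  have hf : Function.Injective f := Fin.castAdd_injective N 2
  set a : Fin (N + 2) := Fin.natAdd N 0
  set b : Fin (N + 2) := Fin.natAdd N 1
  have hab : a ≠ b := fun e => absurd (Fin.natAdd_injective 2 N e) (by decide)
  have hout : ∀ j : Fin 2, Fin.natAdd N j ∉ Set.range f := by
    rintro j ⟨i, hi⟩
    have h1 := congrArg Fin.val hi
    have h2 := i.2
    simp only [hfdef, Fin.val_castAdd, Fin.val_natAdd] at h1
    omega
  have hfa : ∀ i, f i ≠ a := fun i e => hout 0 ⟨i, e⟩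
  have hfb : ∀ i, f i ≠ b := fun i e => hout 1 ⟨i, e⟩
  set U := carry f hf u
  set W := carry f hf w
  set σ := carry f hf (u * u')
  have hσf : ∀ i, σ (f i) = f ((u * u') i) := carry_apply f hf _
  have hσo : ∀ j, σ (Fin.natAdd N j) = Fin.natAdd N j := fun j => carry_fix f hf _ (hout j)
  have hwp : w p = p := (hd p).resolve_left (by simp [hpq.symm])
  have hwq : w q = q := (hd q).resolve_left (by simp [hpq])
  have hWp : W (f p) = f p := by rw [carry_apply, hwp]
  have hWq : W (f q) = f q := by rw [carry_apply, hwq]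
  have hUa : U a = a := carry_fix f hf _ (hout 0)
  have hUb : U b = b := carry_fix f hf _ (hout 1)
  have hWa : W a = a := carry_fix f hf _ (hout 0)
  have hWb : W b = b := carry_fix f hf _ (hout 1)
  have hsw : ∀ x y : Fin (N + 2), x ≠ y → (swap x y).cycleType = {2} := fun x y hxy => by
    rw [(Perm.isCycle_swap hxy).cycleType, Perm.card_support_swap hxy]
  have hd1 : Perm.Disjoint U (swap a b) := fun x => by
    rcases eq_or_ne x a with rfl | ha
    · exact Or.inl hUa
    rcases eq_or_ne x b with rfl | hb
    · exact Or.inl hUb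
    exact Or.inr (swap_apply_of_ne_of_ne ha hb)
  have hd2 : Perm.Disjoint W (swap (f p) a * swap (f q) b) := fun x => by
    rcases eq_or_ne x a with rfl | ha
    · exact Or.inl hWa
    rcases eq_or_ne x b with rfl | hb
    · exact Or.inl hWb
    rcases eq_or_ne x (f p) with rfl | hp
    · exact Or.inl hWp
    rcases eq_or_ne x (f q) with rfl | hq
    · exact Or.inl hWq
    exact Or.inr (by rw [Perm.mul_apply, swap_apply_of_ne_of_ne hq hb, swap_apply_of_ne_of_ne hp ha])
  have hd3 : Perm.Disjoint (swap (f p) a) (swap (f q) b) := fun x => by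
    rcases eq_or_ne x (f p) with rfl | hp
    · exact Or.inr (swap_apply_of_ne_of_ne (fun e => hpq (hf e)) (hfb p))
    rcases eq_or_ne x a with rfl | ha
    · exact Or.inr (swap_apply_of_ne_of_ne (hfa q).symm hab)
    exact Or.inl (swap_apply_of_ne_of_ne hp ha)
  refine ⟨U * swap a b, W * (swap (f p) a * swap (f q) b), ?_, ?_, ?_⟩
  rotate_left
  · rw [hd1.cycleType_mul, cycleType_carry, hu, hsw a b hab, ← Multiset.singleton_add 2 A, add_comm]
  · rw [hd2.cycleType_mul, hd3.cycleType_mul, cycleType_carry, hsw _ _ (hfa p), hsw _ _ (hfb q),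
      hw, ← Multiset.singleton_add 2 (2 ::ₘ _), ← Multiset.singleton_add 2 w.cycleType]
    abel
  -- the product
  have hcarry : carry f hf (swap p q) = swap (f p) (f q) := by
    ext x
    by_cases hx : x ∈ Set.range f
    · obtain ⟨i, rfl⟩ := hx
      rw [carry_apply, hf.swap_apply]
    · rw [carry_fix f hf _ hx, swap_apply_of_ne_of_ne (fun e => hx ⟨p, e.symm⟩)
        (fun e => hx ⟨q, e.symm⟩)]
  set π := U * swap a b * (W * (swap (f p) a * swap (f q) b))
  have hπ : ∀ x, π x = σ ((swap (f p) (f q) * swap a b * (swap (f p) a * swap (f q) b)) x) := by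
    have hUW : π = σ * (swap (f p) (f q) * swap a b * (swap (f p) a * swap (f q) b)) := by
      have hσ' : σ = U * W * swap (f p) (f q) := by
        show carry f hf (u * u') = _
        rw [hcw, (hd.commute).eq, ← mul_assoc, map_mul, map_mul, hcarry]
      have hWab : Commute W (swap a b) := Perm.Disjoint.commute fun x => by
        rcases eq_or_ne x a with rfl | ha
        · exact Or.inl hWa
        rcases eq_or_ne x b with rfl | hb
        · exact Or.inl hWb
        exact Or.inr (swap_apply_of_ne_of_ne ha hb)
      rw [hσ']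
      show U * swap a b * (W * _) = _
      have hp2 : swap (f p) (f q) * swap (f p) (f q) = 1 := swap_mul_self _ _
      calc U * swap a b * (W * (swap (f p) a * swap (f q) b)) =
          U * (swap a b * W) * (swap (f p) a * swap (f q) b) := by simp [mul_assoc]
        _ = U * (W * swap a b) * (swap (f p) a * swap (f q) b) := by rw [hWab.eq]
        _ = U * W * (swap (f p) (f q) * swap (f p) (f q)) * swap a b *
            (swap (f p) a * swap (f q) b) := by rw [hp2, mul_one]; simp [mul_assoc]
        _ = _ := by simp [mul_assoc]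
    intro x; rw [hUW]; rfl
  have hqp' : f p ≠ f q := fun e => hpq (hf e)
  have hπp : π (f p) = b := by
    rw [hπ]
    simp only [Perm.mul_apply, swap_apply_of_ne_of_ne hqp' (hfb p), swap_apply_left,
      swap_apply_of_ne_of_ne (hfb p).symm (hfb q).symm]
    exact hσo 1
  have hπq : π (f q) = a := by
    rw [hπ]
    simp only [Perm.mul_apply, swap_apply_left, swap_apply_right,
      swap_apply_of_ne_of_ne (hfb p).symm hab.symm,
      swap_apply_of_ne_of_ne (hfa p).symm (hfa q).symm]
    exact hσo 0
  have hπa : π a = f ((u * u') q) := by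
    rw [hπ]
    simp only [Perm.mul_apply, swap_apply_of_ne_of_ne (hfa q).symm hab, swap_apply_right,
      swap_apply_of_ne_of_ne (hfa p) (hfb p), swap_apply_left]
    exact hσf q
  have hπb : π b = f ((u * u') p) := by
    rw [hπ]
    simp only [Perm.mul_apply, swap_apply_right,
      swap_apply_of_ne_of_ne hqp'.symm (hfa q), swap_apply_of_ne_of_ne (hfa q) (hfb q)]
    exact hσf p
  have hπo : ∀ i, i ≠ p → i ≠ q → π (f i) = f ((u * u') i) := fun i hp hq => by
    have hp' : f i ≠ f p := fun e => hp (hf e)
    have hq' : f i ≠ f q := fun e => hq (hf e)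
    rw [hπ]
    simp only [Perm.mul_apply, swap_apply_of_ne_of_ne hq' (hfb i),
      swap_apply_of_ne_of_ne hp' (hfa i), swap_apply_of_ne_of_ne (hfa i) (hfb i),
      swap_apply_of_ne_of_ne hp' hq']
    exact hσf i
  -- the old cycle is full
  have hfull : ∀ i, ∃ k : ℕ, ((u * u') ^ k) p = i := by
    have hsum := (u * u').sum_cycleType
    rw [h1, Multiset.sum_singleton] at hsum
    have hun : (u * u').support = Finset.univ :=
      Finset.eq_univ_of_card _ (by rw [← hsum, Fintype.card_fin])
    have hcyc : (u * u').IsCycle := by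
      rw [← Perm.card_cycleType_eq_one, h1, Multiset.card_singleton]
    intro i
    have hi : ∀ j, (u * u') j ≠ j := fun j => Perm.mem_support.1 (hun ▸ Finset.mem_univ j)
    exact ((hcyc.sameCycle (hi p) (hi i)).exists_nat_pow_eq)
  have hreach : ∀ i, Perm.SameCycle π (f p) (f i) := by
    intro i
    obtain ⟨k, rfl⟩ := hfull i
    induction k with
    | zero => simpa using Perm.SameCycle.refl _ _
    | succ k ih =>
      rw [pow_succ', Perm.mul_apply]
      set j := ((u * u') ^ k) p
      by_cases hp : j = p
      · rw [hp, ← hπb, ← hπp]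
        exact Perm.sameCycle_apply_right.2 (Perm.sameCycle_apply_right.2 (Perm.SameCycle.refl _ _))
      by_cases hq : j = q
      · rw [hq, ← hπa, ← hπq]
        exact Perm.sameCycle_apply_right.2 (Perm.sameCycle_apply_right.2 (hq ▸ ih))
      rw [← hπo j hp hq]
      exact Perm.sameCycle_apply_right.2 ih
  have hall : ∀ x, Perm.SameCycle π (f p) x := by
    intro x
    induction x using Fin.addCases with
    | left i => exact hreach i
    | right j =>
      match j with
      | 0 =>
        show Perm.SameCycle π (f p) a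
        rw [← hπq]
        exact Perm.sameCycle_apply_right.2 (hreach q)
      | 1 =>
        show Perm.SameCycle π (f p) b
        rw [← hπp]
        exact Perm.sameCycle_apply_right.2 (Perm.SameCycle.refl _ _)
  have hne : π (f p) ≠ f p := by rw [hπp]; exact (hfb p).symm
  have hcyc : π.IsCycle := ⟨f p, hne, fun x _ => hall x⟩
  have hsupp : π.support = Finset.univ := Finset.eq_univ_iff_forall.2 fun x =>
    Perm.mem_support.2 fun hx => hne ((hall x).apply_eq_self_iff.2 hx)
  rw [hcyc.cycleType, hsupp, Finset.card_univ, Fintype.card_fin]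

theorem cycleType_swap' {N : ℕ} {i j : Fin N} (h : i ≠ j) : (swap i j).cycleType = {2} := by
  rw [(Perm.isCycle_swap h).cycleType, Perm.card_support_swap h]

theorem two_cycle : IsPairType 2 {2} 0 {2} :=
  ⟨1, swap 0 1, by rw [one_mul]; exact cycleType_swap' (by decide), by simp,
    cycleType_swap' (by decide)⟩

theorem three_cycle : IsPairType 3 {3} {2} {2} :=
  ⟨swap 0 1, swap 0 2, Perm.isThreeCycle_swap_mul_swap_same (by decide) (by decide) (by decide),
    cycleType_swap' (by decide), cycleType_swap' (by decide)⟩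

theorem three_cycle_flip : IsPairType 3 {3} {3} {3} :=
  ⟨finRotate 3, finRotate 3, by
    rw [show finRotate 3 * finRotate 3 = (finRotate 3)⁻¹ from by decide, Perm.cycleType_inv]
    exact cycleType_finRotate, cycleType_finRotate, cycleType_finRotate⟩

theorem formPerm_type {N : ℕ} (l : List (Fin N)) (hl : l.Nodup) (hn : 2 ≤ l.length) :
    l.formPerm.cycleType = {l.length} := by
  rw [(List.isCycle_formPerm hl hn).cycleType, List.support_formPerm_of_nodup l hl (by
    rintro x rfl
    simp at hn), List.toFinset_card_of_nodup hl]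

theorem five_cycle_flip : IsPairType 5 {5} (2 ::ₘ {3}) (2 ::ₘ {3}) := by
  refine ⟨swap 0 2 * [1, 4, 3].formPerm, swap 2 4 * [0, 3, 1].formPerm, ?_, ?_, ?_⟩
  · rw [show swap 0 2 * [1, 4, 3].formPerm * (swap 2 4 * [0, 3, 1].formPerm) = finRotate 5 from
      by decide]
    exact cycleType_finRotate
  all_goals
    rw [Perm.Disjoint.cycleType_mul (by unfold Perm.Disjoint; decide), cycleType_swap' (by decide),
      formPerm_type _ (by decide) (by decide)]
    rfl

theorem six_cycle_flip : IsPairType 6 {6} {4} (2 ::ₘ {4}) := by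
  refine ⟨[2, 5, 4, 3].formPerm, swap 2 4 * [0, 1, 3, 5].formPerm, ?_, ?_, ?_⟩
  · rw [show [2, 5, 4, 3].formPerm * (swap 2 4 * [0, 1, 3, 5].formPerm) = finRotate 6 from
      by decide]
    exact cycleType_finRotate
  · exact formPerm_type _ (by decide) (by decide)
  · rw [Perm.Disjoint.cycleType_mul (by unfold Perm.Disjoint; decide), cycleType_swap' (by decide),
      formPerm_type _ (by decide) (by decide)]
    rfl

theorem two_two_flip : IsPairType 4 (2 ::ₘ {2}) (2 ::ₘ {2}) (2 ::ₘ {2}) := by
  refine ⟨swap 0 1 * swap 2 3, swap 0 2 * swap 1 3, ?_, ?_, ?_⟩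
  · rw [show swap (0 : Fin 4) 1 * swap 2 3 * (swap 0 2 * swap 1 3) = swap 0 3 * swap 1 2 from
      by decide, Perm.Disjoint.cycleType_mul (by unfold Perm.Disjoint; decide),
      cycleType_swap' (by decide), cycleType_swap' (by decide)]
    rfl
  all_goals
    rw [Perm.Disjoint.cycleType_mul (by unfold Perm.Disjoint; decide), cycleType_swap' (by decide),
      cycleType_swap' (by decide)]
    rfl

theorem six_two_flip :
    IsPairType 8 (6 ::ₘ {2}) (2 ::ₘ 2 ::ₘ {3}) (2 ::ₘ 2 ::ₘ {3}) := by
  refine ⟨swap 1 2 * (swap 4 7 * [3, 6, 5].formPerm), swap 3 7 * (swap 4 6 * [0, 2, 5].formPerm),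
    ?_, ?_, ?_⟩
  · rw [show swap (1 : Fin 8) 2 * (swap 4 7 * [3, 6, 5].formPerm) *
      (swap 3 7 * (swap 4 6 * [0, 2, 5].formPerm)) = [0, 1, 2, 3, 4, 5].formPerm * swap 6 7 from
      by decide, Perm.Disjoint.cycleType_mul (by unfold Perm.Disjoint; decide),
      cycleType_swap' (by decide), formPerm_type _ (by decide) (by decide)]
    rfl
  all_goals
    rw [Perm.Disjoint.cycleType_mul (by unfold Perm.Disjoint; decide), cycleType_swap' (by decide),
      Perm.Disjoint.cycleType_mul (by unfold Perm.Disjoint; decide), cycleType_swap' (by decide),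
      formPerm_type _ (by decide) (by decide)]
    rfl

theorem four_four_flip :
    IsPairType 8 (4 ::ₘ {4}) (2 ::ₘ 2 ::ₘ 2 ::ₘ {2}) (2 ::ₘ 2 ::ₘ 2 ::ₘ {2}) := by
  refine ⟨swap 0 4 * (swap 1 7 * (swap 2 6 * swap 3 5)),
    swap 0 7 * (swap 1 6 * (swap 2 5 * swap 3 4)), ?_, ?_, ?_⟩
  · rw [show swap (0 : Fin 8) 4 * (swap 1 7 * (swap 2 6 * swap 3 5)) *
      (swap 0 7 * (swap 1 6 * (swap 2 5 * swap 3 4))) =
        [0, 1, 2, 3].formPerm * [4, 5, 6, 7].formPerm from by decide,
      Perm.Disjoint.cycleType_mul (by unfold Perm.Disjoint; decide),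
      formPerm_type _ (by decide) (by decide), formPerm_type _ (by decide) (by decide)]
    rfl
  all_goals
    rw [Perm.Disjoint.cycleType_mul (by unfold Perm.Disjoint; decide), cycleType_swap' (by decide),
      Perm.Disjoint.cycleType_mul (by unfold Perm.Disjoint; decide), cycleType_swap' (by decide),
      Perm.Disjoint.cycleType_mul (by unfold Perm.Disjoint; decide), cycleType_swap' (by decide),
      cycleType_swap' (by decide)]
    rfl

/-- A cycle as a product of two involutions. -/
theorem cycle_std : ∀ d, 2 ≤ d →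
    IsPairType d {d} (replicate ((d - 1) / 2) 2) (replicate (d / 2) 2)
  | 0, h => absurd h (by omega)
  | 1, h => absurd h (by omega)
  | 2, _ => two_cycle
  | 3, _ => three_cycle
  | d + 4, _ => by
    have h := grow (cycle_std (d + 2) (by omega))
      (Multiset.mem_replicate.2 ⟨by omega, rfl⟩)
    rw [← Multiset.replicate_succ, ← Multiset.replicate_succ] at h
    rwa [show (d + 4 - 1) / 2 = (d + 2 - 1) / 2 + 1 by omega,
      show (d + 4) / 2 = (d + 2) / 2 + 1 by omega]

/-- An odd cycle of length at least five, with the other parity. -/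
theorem odd_flip : ∀ m, 2 ≤ m →
    IsPairType (2 * m + 1) {2 * m + 1} (3 ::ₘ replicate (m - 1) 2) (3 ::ₘ replicate (m - 1) 2)
  | 0, h => absurd h (by omega)
  | 1, h => absurd h (by omega)
  | 2, _ => by
    have h : IsPairType 5 {5} (2 ::ₘ {3}) (2 ::ₘ {3}) := five_cycle_flip
    rwa [show (3 ::ₘ replicate (2 - 1) 2 : Multiset ℕ) = 2 ::ₘ {3} from rfl.trans
      (Multiset.cons_swap 3 2 0)]
  | m + 3, _ => by
    have h := grow (odd_flip (m + 2) (by omega))
      (Multiset.mem_cons_of_mem (Multiset.mem_replicate.2 ⟨by omega, rfl⟩))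
    rw [Multiset.cons_swap 2 3, ← Multiset.replicate_succ] at h
    exact h

/-- An even cycle of length at least six, with the other parity. -/
theorem even_flip : ∀ h, 3 ≤ h →
    IsPairType (2 * h) {2 * h} (4 ::ₘ replicate (h - 3) 2) (4 ::ₘ replicate (h - 2) 2)
  | 0, h => absurd h (by omega)
  | 1, h => absurd h (by omega)
  | 2, h => absurd h (by omega)
  | 3, _ => by
    rw [show (4 ::ₘ replicate (3 - 2) 2 : Multiset ℕ) = 2 ::ₘ {4} from rfl.trans
      (Multiset.cons_swap 4 2 0)]
    exact six_cycle_flip
  | k + 4, _ => by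
    have h := grow (even_flip (k + 3) (by omega))
      (Multiset.mem_cons_of_mem (Multiset.mem_replicate.2 ⟨by omega, rfl⟩))
    rw [Multiset.cons_swap 2 4, Multiset.cons_swap 2 4, ← Multiset.replicate_succ,
      ← Multiset.replicate_succ] at h
    exact h

/-- Any type as a product of two involutions, as balanced as possible. -/
theorem std (T : Multiset ℕ) (hT : ∀ d ∈ T, 2 ≤ d) :
    IsPairType T.sum T (replicate ((T.sum - card T) / 2) 2)
      (replicate ((T.sum - card T + 1) / 2) 2) := by
  induction T using Multiset.induction with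
  | empty => exact zero 0
  | cons d R ih =>
    have hd : 2 ≤ d := hT d (Multiset.mem_cons_self _ _)
    have hR := ih fun x hx => hT x (Multiset.mem_cons_of_mem hx)
    have hle : card R * 2 ≤ R.sum := by
      rw [← smul_eq_mul]
      exact Multiset.card_nsmul_le_sum fun x hx => hT x (Multiset.mem_cons_of_mem hx)
    rw [Multiset.sum_cons, Multiset.card_cons, ← Multiset.singleton_add]
    by_cases hpar : (d - 1) % 2 = 1 ∧ (R.sum - card R) % 2 = 1
    · have h := (cycle_std d hd).add hR.symm
      rw [← Multiset.replicate_add, ← Multiset.replicate_add] at h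
      convert h using 2 <;> omega
    · have h := (cycle_std d hd).add hR
      rw [← Multiset.replicate_add, ← Multiset.replicate_add] at h
      convert h using 2 <;> omega

/-- Non-trivial even types: equal even types with two transpositions. -/
theorem exists_pairType (n : ℕ) (hn : 5 ≤ n) (T : Multiset ℕ) (hT : ∀ d ∈ T, 2 ≤ d)
    (hsum : T.sum ≤ n) (hne : T ≠ 0) (heven : Even (T.sum + card T)) :
    ∃ A : Multiset ℕ, IsPairType n T A A ∧ Even (A.sum + card A) ∧ 2 ≤ A.count 2 := by
  classical
  have hle : card T * 2 ≤ T.sum := by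
    rw [← smul_eq_mul]; exact Multiset.card_nsmul_le_sum hT
  obtain ⟨e, he⟩ := heven
  obtain ⟨k, hk⟩ : ∃ k, T.sum - card T = 2 * k := ⟨e - card T, by omega⟩
  have hk1 : 1 ≤ k := by
    have : 0 < card T := Multiset.card_pos.2 hne
    omega
  have hstd := std T hT
  rw [hk, show 2 * k / 2 = k by omega, show (2 * k + 1) / 2 = k by omega] at hstd
  by_cases hkev : k % 2 = 0
  · refine ⟨replicate k 2, hstd.mono hsum, ?_, ?_⟩
    · rw [Multiset.sum_replicate, Multiset.card_replicate, Nat.even_iff, smul_eq_mul]; omega
    · rw [Multiset.count_replicate_self]; omega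
  -- the remaining part of a type
  have hrest : ∀ R : Multiset ℕ, (∀ d ∈ R, 2 ≤ d) → card R * 2 ≤ R.sum := fun R hR => by
    rw [← smul_eq_mul]; exact Multiset.card_nsmul_le_sum hR
  by_cases h5 : ∃ d ∈ T, 5 ≤ d
  · obtain ⟨d, hdT, hd5⟩ := h5
    obtain ⟨R, rfl⟩ := Multiset.exists_cons_of_mem hdT
    have hR : ∀ x ∈ R, 2 ≤ x := fun x hx => hT x (Multiset.mem_cons_of_mem hx)
    have hRle := hrest R hR
    have hsR := std R hR
    rw [Multiset.sum_cons] at hsum hk
    rw [Multiset.card_cons] at hk
    obtain ⟨m, hm | hm⟩ := Nat.even_or_odd' d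
    · subst hm
      obtain ⟨r, hr⟩ : ∃ r, R.sum - card R = 2 * r + 1 := ⟨k - m, by omega⟩
      by_cases hspec : k = 3
      · have hr0 : r = 0 ∧ m = 3 := by omega
        obtain ⟨rfl, rfl⟩ := hr0
        have hR2 : R = {2} := by
          have h0 : 0 < card R := Multiset.card_pos.2 fun e => by rw [e] at hr; simp at hr
          have h1 : card R = 1 := by omega
          obtain ⟨x, rfl⟩ := Multiset.card_eq_one.1 h1
          rw [Multiset.sum_singleton, Multiset.card_singleton] at hr
          rw [show x = 2 by omega]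
        subst hR2
        refine ⟨2 ::ₘ 2 ::ₘ {3}, six_two_flip.mono ?_, by simp [Nat.even_iff], by simp⟩
        simpa using hsum
      · rw [hr, show (2 * r + 1) / 2 = r by omega, show (2 * r + 1 + 1) / 2 = r + 1 by omega]
          at hsR
        have h := (even_flip m (by omega)).add hsR.symm
        rw [Multiset.singleton_add, Multiset.cons_add, Multiset.cons_add, ← Multiset.replicate_add,
          ← Multiset.replicate_add, show m - 3 + (r + 1) = m - 2 + r by omega] at h
        refine ⟨_, h.mono hsum, ?_, ?_⟩
        · rw [Multiset.sum_cons, Multiset.card_cons, Multiset.sum_replicate,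
            Multiset.card_replicate, Nat.even_iff, smul_eq_mul]
          omega
        · rw [Multiset.count_cons_of_ne (by decide), Multiset.count_replicate_self]; omega
    · subst hm
      obtain ⟨r, hr⟩ : ∃ r, R.sum - card R = 2 * r := ⟨k - m, by omega⟩
      rw [hr, show 2 * r / 2 = r by omega, show (2 * r + 1) / 2 = r by omega] at hsR
      have h := (odd_flip m (by omega)).add hsR
      rw [Multiset.singleton_add, Multiset.cons_add, ← Multiset.replicate_add] at h
      refine ⟨_, h.mono hsum, ?_, ?_⟩
      · rw [Multiset.sum_cons, Multiset.card_cons, Multiset.sum_replicate,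
          Multiset.card_replicate, Nat.even_iff, smul_eq_mul]
        omega
      · rw [Multiset.count_cons_of_ne (by decide), Multiset.count_replicate_self]; omega
  push Not at h5
  by_cases h3 : 3 ∈ T
  · obtain ⟨R, rfl⟩ := Multiset.exists_cons_of_mem h3
    have hR : ∀ x ∈ R, 2 ≤ x := fun x hx => hT x (Multiset.mem_cons_of_mem hx)
    have hRle := hrest R hR
    rw [Multiset.sum_cons] at hsum hk
    rw [Multiset.card_cons] at hk
    by_cases hk3 : k = 1
    · have hR0 : R = 0 := Multiset.card_eq_zero.1 (by omega)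
      subst hR0
      refine ⟨2 ::ₘ {2}, ?_, by simp [Nat.even_iff], by simp⟩
      have h := three_cycle.add double
      rw [add_zero] at h
      exact h.mono hn
    · obtain ⟨r, hr⟩ : ∃ r, R.sum - card R = 2 * r := ⟨k - 1, by omega⟩
      have hsR := std R hR
      rw [hr, show 2 * r / 2 = r by omega, show (2 * r + 1) / 2 = r by omega] at hsR
      have h := three_cycle_flip.add hsR
      rw [Multiset.singleton_add, Multiset.singleton_add] at h
      refine ⟨_, h.mono hsum, ?_, ?_⟩
      · rw [Multiset.sum_cons, Multiset.card_cons, Multiset.sum_replicate,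
          Multiset.card_replicate, Nat.even_iff, smul_eq_mul]
        omega
      · rw [Multiset.count_cons_of_ne (by decide), Multiset.count_replicate_self]; omega
  -- only twos and fours
  have h24 : T = replicate (T.count 2) 2 + replicate (T.count 4) 4 := by
    refine Multiset.ext.2 fun x => ?_
    rw [Multiset.count_add, Multiset.count_replicate, Multiset.count_replicate]
    by_cases hx : x ∈ T
    · have h1 := hT x hx
      have h2 := h5 x hx
      have h3' : x ≠ 3 := fun e => h3 (e ▸ hx)
      obtain rfl | rfl : x = 2 ∨ x = 4 := by omega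
      · simp
      · simp
    · rw [Multiset.count_eq_zero.2 hx]
      split_ifs with a b b <;> subst_vars <;> simp_all
  obtain ⟨c2, hc2⟩ : ∃ c, T.count 2 = c := ⟨_, rfl⟩
  obtain ⟨c4, hc4⟩ : ∃ c, T.count 4 = c := ⟨_, rfl⟩
  rw [hc2, hc4] at h24
  clear hc2 hc4
  subst h24
  simp only [Multiset.sum_add, Multiset.card_add, Multiset.sum_replicate, Multiset.card_replicate,
    smul_eq_mul] at hk hsum
  by_cases h22 : 2 ≤ c2
  · obtain ⟨c, rfl⟩ : ∃ c, c2 = c + 2 := ⟨c2 - 2, by omega⟩
    have hsR := std (replicate c 2 + replicate c4 4) (fun x hx => hT x (by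
      rcases Multiset.mem_add.1 hx with h | h
      · exact Multiset.mem_add.2 (Or.inl (Multiset.mem_replicate.2
          ⟨by omega, Multiset.eq_of_mem_replicate h⟩))
      · exact Multiset.mem_add.2 (Or.inr h)))
    simp only [Multiset.sum_add, Multiset.card_add, Multiset.sum_replicate,
      Multiset.card_replicate, smul_eq_mul] at hsR
    rw [show (c * 2 + c4 * 4 - (c + c4)) / 2 = k - 1 by omega,
      show (c * 2 + c4 * 4 - (c + c4) + 1) / 2 = k - 1 by omega] at hsR
    have h := two_two_flip.add hsR
    rw [show (2 ::ₘ {2} : Multiset ℕ) = replicate 2 2 from rfl, ← Multiset.replicate_add,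
      show replicate 2 2 + (replicate c 2 + replicate c4 4) = replicate (c + 2) 2 + replicate c4 4
        by rw [← add_assoc, ← Multiset.replicate_add, add_comm 2 c]] at h
    refine ⟨_, h.mono (by omega), ?_, ?_⟩
    · rw [Multiset.sum_replicate, Multiset.card_replicate, Nat.even_iff, smul_eq_mul]; omega
    · rw [Multiset.count_replicate_self]; omega
  · obtain ⟨c, rfl⟩ : ∃ c, c4 = c + 2 := ⟨c4 - 2, by
      rcases (show c4 = 0 ∨ c4 = 1 ∨ 2 ≤ c4 by omega) with rfl | rfl | h4 <;> omega⟩
    have hsR := std (replicate c2 2 + replicate c 4) (fun x hx => hT x (by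
      rcases Multiset.mem_add.1 hx with h | h
      · exact Multiset.mem_add.2 (Or.inl h)
      · exact Multiset.mem_add.2 (Or.inr (Multiset.mem_replicate.2
          ⟨by omega, Multiset.eq_of_mem_replicate h⟩))))
    simp only [Multiset.sum_add, Multiset.card_add, Multiset.sum_replicate,
      Multiset.card_replicate, smul_eq_mul] at hsR
    rw [show (c2 * 2 + c * 4 - (c2 + c)) / 2 = k - 3 by omega,
      show (c2 * 2 + c * 4 - (c2 + c) + 1) / 2 = k - 3 by omega] at hsR
    have h := four_four_flip.add hsR
    rw [show (4 ::ₘ {4} : Multiset ℕ) = replicate 2 4 from rfl,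
      show (2 ::ₘ 2 ::ₘ 2 ::ₘ {2} : Multiset ℕ) = replicate 4 2 from rfl,
      ← Multiset.replicate_add,
      show replicate 2 4 + (replicate c2 2 + replicate c 4) = replicate c2 2 + replicate (c + 2) 4
        by rw [add_left_comm, ← Multiset.replicate_add, add_comm 2 c]] at h
    refine ⟨_, h.mono (by omega), ?_, ?_⟩
    · rw [Multiset.sum_replicate, Multiset.card_replicate, Nat.even_iff, smul_eq_mul]; omega
    · rw [Multiset.count_replicate_self]; omega

end Cfsg.Agent.SpinCover.PairDecomp
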